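import Groth.Agent.Et18.H0Lift.SpreadChow

/-!
# Locally finite disjoint unions of proper morphisms
-/

set_option autoImplicit false
set_option backward.isDefEq.respectTransparency.types false
set_option backward.isDefEq.respectTransparency false

universe u

open CategoryTheory CategoryTheory.Limits AlgebraicGeometry Opposite
open Groth.Agent.Et18

namespace Groth.Agent.CohDer1.BivarClopen

open Groth.Agent.Et18.H0Lift Groth.Agent.Et18.ProperClopen

theorem sigma_cover {ι : Type u} (Y : ι → Scheme.{u}) (z : (∐ Y : Scheme.{u})) :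
    ∃ i, z ∈ Set.range (Sigma.ι Y i) :=
  ⟨_, ((sigmaMk Y).symm z).2, (sigmaMk_mk Y _ _).symm.trans ((sigmaMk Y).apply_symm_apply z)⟩

theorem sigma_disjoint {ι : Type u} (Y : ι → Scheme.{u}) (i j : ι) (h : i ≠ j) :
    Disjoint (Set.range (Sigma.ι Y i)) (Set.range (Sigma.ι Y j)) := by
  rw [Set.disjoint_left]
  rintro _ ⟨x, rfl⟩ ⟨y, hy⟩
  exact h (congrArg Sigma.fst ((sigmaι_eq_iff Y j i y x).1 hy)).symm

theorem isClosed_range_sigmaι {ι : Type u} (Y : ι → Scheme.{u}) (i : ι) : IsClosed (Set.range (Sigma.ι Y i)) := by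
  have : (Set.range (Sigma.ι Y i))ᶜ = ⋃ (j : ι) (_ : j ≠ i), Set.range (Sigma.ι Y j) := by
    ext z
    simp only [Set.mem_compl_iff, Set.mem_iUnion]
    constructor
    · intro hz
      obtain ⟨j, hj⟩ := sigma_cover Y z
      exact ⟨j, fun h => hz (h ▸ hj), hj⟩
    · rintro ⟨j, hji, hj⟩ hi
      exact Set.disjoint_left.1 (sigma_disjoint Y j i hji) hj hi
  exact isOpen_compl_iff.1 (this ▸ isOpen_biUnion fun j _ => (Sigma.ι Y j).isOpenEmbedding.isOpen_range)

/-- A locally finite disjoint union of proper morphisms is proper. -/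
theorem isProper_sigmaDesc_of_locallyFinite {ι : Type u} {Y : ι → Scheme.{u}} {S : Scheme.{u}}
    (s : ∀ i, Y i ⟶ S) [∀ i, IsProper (s i)] (hlf : LocallyFinite fun i => Set.range (s i)) :
    IsProper (Sigma.desc s) := by
  classical
  refine (IsZariskiLocalAtTarget.iff_of_iSup_eq_top (P := @IsProper) _ (iSup_affineOpens_eq_top S)).2 fun U => ?_
  set π := Sigma.desc s
  have : LocallyOfFiniteType π :=
    IsZariskiLocalAtSource.sigmaDesc (P := @LocallyOfFiniteType) fun i => inferInstance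
  have : LocallyOfFiniteType (π ∣_ U.1) := IsZariskiLocalAtTarget.restrict this _
  set g := π ∣_ U.1
  have hfin : {i | (Set.range (s i) ∩ (U.1 : Set S)).Nonempty}.Finite :=
    hlf.finite_nonempty_inter_compact U.2.isCompact
  let R : ι → Set (↑(π ⁻¹ᵁ U.1) : Scheme.{u}) := fun i => (π ⁻¹ᵁ U.1).ι ⁻¹' Set.range (Sigma.ι Y i)
  have hR : ∀ i, IsClosed (R i) := fun i => (isClosed_range_sigmaι Y i).preimage (π ⁻¹ᵁ U.1).ι.continuous
  have hpc : ∀ i, ClSub.IsProperOver g (R i) := fun i => by
    have : IsClosedImmersion (Sigma.ι Y i) := IsClosedImmersion.of_isPreimmersion _ (isClosed_range_sigmaι Y i)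
    have : IsClosedImmersion (Sigma.ι Y i ∣_ (π ⁻¹ᵁ U.1)) := IsZariskiLocalAtTarget.restrict this _
    have hcomp : IsProper (Sigma.ι Y i ≫ π) := by rw [Sigma.ι_desc]; infer_instance
    have : IsProper (Sigma.ι Y i ∣_ (π ⁻¹ᵁ U.1) ≫ g) := by
      rw [← morphismRestrict_comp]
      exact IsZariskiLocalAtTarget.restrict hcomp _
    have h := isProperOver_of_isClosedImmersion g (Sigma.ι Y i ∣_ (π ⁻¹ᵁ U.1))
    convert h
    rw [morphismRestrict_base, Set.range_restrictPreimage]
    rfl
  have key : ∀ t : Finset ι, ClSub.IsProperOver g (⋃ i ∈ t, R i) := by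
    intro t
    induction t using Finset.induction_on with
    | empty => simpa using isProperOver_empty g
    | insert i t hi ih =>
      rw [Finset.set_biUnion_insert]
      exact IsProperOver.union (hpc i) ih
  obtain ⟨hc, hp⟩ : ClSub.IsProperOver g (Set.univ : Set (↑(π ⁻¹ᵁ U.1) : Scheme.{u})) := by
    have : (⋃ i ∈ hfin.toFinset, R i) = Set.univ := Set.eq_univ_iff_forall.2 fun z => by
      obtain ⟨i, a, ha⟩ := sigma_cover Y ((π ⁻¹ᵁ U.1).ι z)
      refine Set.mem_biUnion (x := i) ?_ ⟨a, ha⟩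
      refine hfin.mem_toFinset.2 ⟨s i a, ⟨a, rfl⟩, ?_⟩
      have : s i a = π ((π ⁻¹ᵁ U.1).ι z) := by
        rw [← ha, ← Scheme.Hom.comp_apply, Sigma.ι_desc]
      rw [this]
      exact z.2
    exact this ▸ key hfin.toFinset
  let e := (redSub (Set.univ : Set (↑(π ⁻¹ᵁ U.1) : Scheme.{u})) hc).subschemeι
  have hr : Set.range e ∪ Set.range e = Set.univ := by rw [Set.union_self, range_redSub]
  have : IsProper (e ≫ g) := hp
  have : UniversallyClosed g := universallyClosed_of_covers e e _ hr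
  have : IsSeparated g := isSeparated_of_covers e e _ hr
  exact {}

end Groth.Agent.CohDer1.BivarClopen
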