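import Groth.Agent.CohDer1.Bivar.Main
import Groth.Agent.CohDer1.Bivar.SigmaProper
import Groth.Agent.Bivar15.ProperPush
import Groth.Agent.CycLib28.Env.Kernel
import Groth.Agent.CycLib28.PushAny
import Groth.Agent.CycLib28.P1GraphClosure

/-!
# Vanishing of bivariant classes on birational modifications of integral test schemes
-/

set_option autoImplicit false
set_option linter.style.haveILetI false
set_option linter.unusedSectionVars false
set_option backward.isDefEq.respectTransparency.types false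
set_option maxHeartbeats 1000000

universe u

open AlgebraicGeometry CategoryTheory CategoryTheory.Limits
open Groth.Agent.CycLib28 Groth.Agent.CycLib28.PB Groth.Agent.CycLib28.PB.Ops Groth.Agent.CycLim28

namespace Groth.Agent.CohDer1.BivarClopen

open Groth.Agent.Bivar15

open scoped Classical in
/-- The cycle with coefficient one at a point. -/
noncomputable def pointCycle {W : Scheme.{u}} (w : W) : AlgebraicCycle W ℤ where
  toFun x := if x = w then 1 else 0
  supportWithinDomain' := by simp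
  supportLocallyFiniteWithinDomain' := fun x _ => by
    refine ⟨Set.univ, Filter.univ_mem, (Set.finite_singleton w).subset ?_⟩
    rintro z ⟨-, hz⟩
    by_contra hne
    exact hz (if_neg hne)

theorem surjective_residueFieldMap {A B : Scheme.{u}} (g : A ⟶ B) (x : A) [IsIso (g.stalkMap x)] :
    Function.Surjective (g.residueFieldMap x).hom := by
  intro a
  obtain ⟨b, rfl⟩ := A.residue_surjective x a
  obtain ⟨c, rfl⟩ := (ConcreteCategory.bijective_of_isIso (g.stalkMap x)).2 b
  exact ⟨(B.residue (g x)).hom c,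
    congrArg (fun m => m.hom c) (Scheme.residue_residueFieldMap g x)⟩

theorem surjective_residueFieldMap_comp {A B C : Scheme.{u}} (g : A ⟶ B) (h : B ⟶ C) (x : A)
    (hg : Function.Surjective (g.residueFieldMap x).hom) (hh : Function.Surjective (h.residueFieldMap (g x)).hom) :
    Function.Surjective ((g ≫ h).residueFieldMap x).hom := by
  intro a
  obtain ⟨b, rfl⟩ := hg a
  obtain ⟨c, rfl⟩ := hh b
  exact ⟨c, congrArg (fun m => m.hom c) (Scheme.residueFieldMap_comp g h x)⟩

theorem surjective_residueFieldMap_of_comp {A B C : Scheme.{u}} (g : A ⟶ B) (h : B ⟶ C) (m : A ⟶ C)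
    (e : g ≫ h = m) (x : A) (hm : Function.Surjective (m.residueFieldMap x).hom) :
    Function.Surjective (h.residueFieldMap (g x)).hom := by
  subst e
  intro b
  obtain ⟨c, hc⟩ := hm ((g.residueFieldMap x).hom b)
  exact ⟨c, (g.residueFieldMap x).hom.injective
    ((congrArg (fun m => m.hom c) (Scheme.residueFieldMap_comp g h x)).symm.trans hc)⟩

theorem range_of_isPullback {P A B C : Scheme.{u}} {p₁ : P ⟶ A} {p₂ : P ⟶ B} {f : A ⟶ C} {g : B ⟶ C}
    (h : IsPullback p₁ p₂ f g) : Set.range p₁ = f ⁻¹' Set.range g := by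
  rw [← Scheme.Pullback.range_fst, ← h.isoPullback_hom_fst, Scheme.Hom.comp_base, TopCat.coe_comp,
    Set.range_comp, Set.range_eq_univ.2 h.isoPullback.hom.surjective, Set.image_univ]

variable {X Y : Scheme.{u}} {δX : X → ℤ} {δY : Y → ℤ} {f : X ⟶ Y} [LocallyOfFiniteType f]

theorem eq_zero_of_birational (hX : Cyc.IsSetup X δX) (hY : Cyc.IsSetup Y δY) {p : ℤ}
    (c : Bivar.Cl p f δX δY)
    (h3 : ∀ (s : Bivar.Sq f δX δY) [AlgebraicGeometry.IsIntegral s.Y'], ∃ (t : Bivar.Sq s.f' s.δX' s.δY')
      (_ : IrreducibleSpace t.Y') (_ : IsProper t.g), t.g (genericPoint t.Y') = genericPoint s.Y' ∧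
        IsIso (t.g.stalkMap (genericPoint t.Y')) ∧
        ∀ (k : ℤ) (α : AlgebraicCycle t.Y' ℤ) (hα : α ∈ Cyc.Zk t.Y' t.δY' k), α (genericPoint t.Y') = 1 →
          (∀ y : t.Y', y ≠ genericPoint t.Y' → α y = 0) → c.op (s.paste t) k (ChowOps.cl α hα) = 0) :
    c = 0 := by
  classical
  refine Bivar.Cl.ext (funext fun s => funext fun k => AddMonoidHom.ext fun a => ?_)
  show c.op s k a = 0
  obtain ⟨α, hα, rfl⟩ := Bivar.exists_rep a
  haveI := s.lft
  haveI := lft_g' s
  have hsY := setupY hY s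
  have hsX := setupX hX s
  haveI := hsY.1
  haveI := hsX.1
  let J : Type u := { y : s.Y' // α y ≠ 0 }
  let Z : J → Scheme.{u} := fun y => (AssSch12.clI y.1).subscheme
  let i : ∀ y, Z y ⟶ s.Y' := fun y => (AssSch12.clI y.1).subschemeι
  haveI : LocallyOfFiniteType s.f' :=
    MorphismProperty.of_isPullback s.isPullback.flip inferInstance
  let zsq : J → Bivar.Sq s.f' s.δX' s.δY' := fun y =>
    ⟨Z y, pullback (i y) s.f', i y, pullback.fst _ _, pullback.snd _ _, IsPullback.of_hasPullback _ _,
      inferInstance, fun a => s.δY' (i y a), fun a => s.δX' (pullback.snd (i y) s.f' a),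
      deltaCompat_preimmersion (i y) s.δY', deltaCompat_preimmersion (pullback.snd (i y) s.f') s.δX'⟩
  have hint : ∀ y, AlgebraicGeometry.IsIntegral (s.paste (zsq y)).Y' := fun y =>
    inferInstanceAs (AlgebraicGeometry.IsIntegral (Z y))
  choose t hirr hprop hgen hiso hkill using fun y => @h3 (s.paste (zsq y)) (hint y)
  haveI : ∀ y, IsProper (t y).g := hprop
  let g : ∀ y, (t y).Y' ⟶ s.Y' := fun y => (t y).g ≫ i y
  haveI : ∀ y, IsProper (g y) := fun y => inferInstanceAs (IsProper ((t y).g ≫ i y))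
  have hgy : ∀ y, g y (genericPoint (t y).Y') = y.1 := fun y => by
    show i y ((t y).g (genericPoint (t y).Y')) = y.1
    rw [hgen y]
    exact genericPoint_clI y.1
  have hgs : ∀ y, Function.Surjective ((g y).residueFieldMap (genericPoint (t y).Y')).hom := fun y => by
    haveI := hiso y
    haveI := DimLib.isIso_residueFieldMap_of_isPreimmersion (i y) ((t y).g (genericPoint (t y).Y'))
    exact surjective_residueFieldMap_comp (t y).g (i y) _ (surjective_residueFieldMap (t y).g _)
      (ConcreteCategory.bijective_of_isIso _).2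
  have hlf : LocallyFinite fun y : J => Set.range (g y) := by
    have h1 : LocallyFinite fun y : J => ({y.1} : Set s.Y') := fun x => by
      obtain ⟨U, hU, hfin⟩ := α.supportLocallyFiniteWithinDomain' x (Set.mem_univ x)
      refine ⟨U, hU, (hfin.preimage Subtype.val_injective.injOn).subset ?_⟩
      rintro y ⟨_, rfl, hy⟩
      exact ⟨hy, y.2⟩
    refine h1.closure.subset fun y => ?_
    rintro _ ⟨a, rfl⟩
    rw [← Coherent.range_clι]
    exact ⟨(t y).g a, rfl⟩
  let T : Scheme.{u} := ∐ fun y => (t y).Y'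
  let π : T ⟶ s.Y' := Sigma.desc g
  haveI : IsProper π := isProper_sigmaDesc_of_locallyFinite g hlf
  obtain ⟨δT, hδT⟩ := exists_deltaCompat_of_locallyOfFiniteType π s.δY'
  obtain ⟨δT', hδT'⟩ := exists_deltaCompat_of_locallyOfFiniteType (pullback.snd π s.f') s.δX'
  let T₀ : Bivar.Sq s.f' s.δX' s.δY' :=
    ⟨T, pullback π s.f', π, pullback.fst _ _, pullback.snd _ _, IsPullback.of_hasPullback _ _, inferInstance,
      δT, δT', hδT, hδT'⟩
  let hYm : ∀ y, (t y).Y' ⟶ T := fun y => Sigma.ι (fun y => (t y).Y') y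
  have eg : ∀ y, hYm y ≫ π = g y := fun y => Sigma.ι_desc _ _
  haveI : ∀ y, IsClosedImmersion (hYm y) := fun y =>
    IsClosedImmersion.of_isPreimmersion _ (isClosed_range_sigmaι _ y)
  let hXm : ∀ y, (t y).X' ⟶ pullback π s.f' := fun y =>
    pullback.lift ((t y).f' ≫ hYm y) ((t y).g' ≫ (zsq y).g') (by
      rw [Category.assoc, eg, Category.assoc, ← (zsq y).isPullback.w, ← Category.assoc, ← Category.assoc]
      exact congrArg (· ≫ i y) (t y).isPullback.w)
  have w₁ : ∀ y, hYm y ≫ (s.paste T₀).g = ((s.paste (zsq y)).paste (t y)).g := fun y => by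
    show hYm y ≫ π ≫ s.g = (t y).g ≫ i y ≫ s.g
    rw [← Category.assoc, eg, Category.assoc]
  have w₂ : ∀ y, hXm y ≫ (s.paste T₀).f' = ((s.paste (zsq y)).paste (t y)).f' ≫ hYm y := fun y =>
    pullback.lift_fst _ _ _
  have w₃ : ∀ y, hXm y ≫ (s.paste T₀).g' = ((s.paste (zsq y)).paste (t y)).g' := fun y => by
    show pullback.lift _ _ _ ≫ pullback.snd π s.f' ≫ s.g' = (t y).g' ≫ (zsq y).g' ≫ s.g'
    rw [pullback.lift_snd_assoc, Category.assoc]
  have sq := fun y => sq_isPullback (s.paste T₀) ((s.paste (zsq y)).paste (t y)) (hYm y) (hXm y)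
    (w₁ y) (w₂ y) (w₃ y)
  haveI : ∀ y, IsOpenImmersion (hXm y) := fun y => MorphismProperty.of_isPullback (sq y) inferInstance
  haveI : ∀ y, IsClosedImmersion (hXm y) := fun y => MorphismProperty.of_isPullback (sq y) inferInstance
  have dY : ∀ y a, (t y).δY' a = δT (hYm y a) := fun y => congrFun
    (GraphPull.deltaCompat_unique (hYm y) (compatY (s.paste T₀) ((s.paste (zsq y)).paste (t y)) _ (w₁ y)).2
      (deltaCompat_preimmersion (hYm y) δT))
  have dX : ∀ y a, (t y).δX' a = δT' (hXm y a) := fun y => congrFun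
    (GraphPull.deltaCompat_unique (hXm y) (compatX (s.paste T₀) ((s.paste (zsq y)).paste (t y)) _ (w₃ y)).2
      (deltaCompat_preimmersion (hXm y) δT'))
  have hdY : IsDecomp hYm := ⟨sigma_disjoint _, sigma_cover _⟩
  have hdX : IsDecomp hXm := by
    refine ⟨fun y y' hne => ?_, fun z => ?_⟩
    · rw [range_of_isPullback (sq y).flip, range_of_isPullback (sq y').flip]
      exact (hdY.disj y y' hne).preimage _
    · obtain ⟨y, hy⟩ := hdY.cov ((s.paste T₀).f' z)
      exact ⟨y, by rw [range_of_isPullback (sq y).flip]; exact hy⟩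
  have hpt : ∀ y, pointCycle (genericPoint (t y).Y') ∈ Cyc.Zk (t y).Y' (t y).δY' k := fun y x hx => by
    show (if x = genericPoint (t y).Y' then (1 : ℤ) else 0) = 0
    refine if_neg fun e => hx ?_
    subst e
    have hc : Cyc.DeltaCompat (g y) (t y).δY' s.δY' :=
      Bivar.deltaCompat_comp _ _ _ _ _ (t y).compatY (deltaCompat_preimmersion (i y) s.δY')
    rw [Env.delta_eq_of_surjective (g y) hc _ (hgs y), hgy y]
    by_contra hne
    exact y.2 (hα y.1 hne)
  have hn : ∀ y : J, (α y.1 • pointCycle (genericPoint (t y).Y') : AlgebraicCycle (t y).Y' ℤ) ∈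
      Cyc.Zk (t y).Y' (t y).δY' k := fun y => (ChowOps.zk _ _ k).zsmul_mem (hpt y) _
  obtain ⟨β, hβ⟩ := exists_glue hdY fun y => α y.1 • pointCycle (genericPoint (t y).Y')
  have hβk : β ∈ Cyc.Zk T δT k := fun x hx => by
    obtain ⟨y, v, rfl⟩ := hdY.cov x
    rw [hβ]
    exact hn y v (by rw [dY]; exact hx)
  have hsT := setupX hX (s.paste T₀)
  have hsTY := setupY hY (s.paste T₀)
  have hop : c.op (s.paste T₀) k (ChowOps.cl β hβk) = 0 := by
    refine eq_of_resC_eq hdX hsT (δV := fun y => (t y).δX') dX _ _ fun y => ?_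
    rw [map_zero, ← op_resC c hX hY (s.paste T₀) ((s.paste (zsq y)).paste (t y)) (hYm y) (hXm y)
      (w₁ y) (w₂ y) (w₃ y) (dY y) (dX y) k, resC_cl (hYm y) (dY y) (setupY hY ((s.paste (zsq y)).paste (t y))) hsTY hβk,
      Bivar.cl_congr (DFunLike.ext _ _ fun v => hβ y v) _ (hn y)]
    show c.op ((s.paste (zsq y)).paste (t y)) k (ChowOps.clHom (t y).Y' (t y).δY' k
      (α y.1 • ⟨pointCycle (genericPoint (t y).Y'), hpt y⟩)) = 0
    rw [map_zsmul, map_zsmul]
    exact smul_eq_zero_of_right _ (hkill y k (pointCycle _) (hpt y) (if_pos rfl) fun z hz => if_neg hz)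
  have hmap : AlgebraicCycle.map π δT s.δY' β = α := by
    refine DFunLike.ext _ _ fun x => ?_
    have hsupp : ∀ z, β z ≠ 0 → ∃ y : J, z = hYm y (genericPoint (t y).Y') ∧ π z = y.1 ∧ β z = α y.1 ∧
        AlgebraicCycle.mapCoeff π δT s.δY' z = 1 := by
      intro z hz
      obtain ⟨y, v, rfl⟩ := hdY.cov z
      rw [hβ] at hz
      have hv : v = genericPoint (t y).Y' := by
        by_contra hne
        refine hz ?_
        show α y.1 • (if v = genericPoint (t y).Y' then (1 : ℤ) else 0) = 0
        rw [if_neg hne, smul_zero]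
      subst hv
      have hπ : π (hYm y (genericPoint (t y).Y')) = y.1 := by
        rw [← Scheme.Hom.comp_apply, eg]; exact hgy y
      refine ⟨y, rfl, hπ, ?_, ?_⟩
      · rw [hβ]
        show α y.1 • (if _ = genericPoint (t y).Y' then (1 : ℤ) else 0) = α y.1
        rw [if_pos rfl, smul_eq_mul, mul_one]
      · have hs : Function.Surjective (π.residueFieldMap (hYm y (genericPoint (t y).Y'))).hom :=
          surjective_residueFieldMap_of_comp (hYm y) π (g y) (eg y) _ (hgs y)
        rw [AlgebraicCycle.mapCoeff, if_pos (Env.delta_eq_of_surjective π hδT _ hs),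
          Env.residueDegree_of_surjective π _ hs]
    show ∑ᶠ z ∈ π.base ⁻¹' {x}, β z * (AlgebraicCycle.mapCoeff π δT s.δY' z : ℤ) = α x
    by_cases hx : α x = 0
    · rw [hx]
      refine finsum_mem_eq_zero_of_forall_eq_zero fun z hz => ?_
      by_cases hz0 : β z = 0
      · rw [hz0, zero_mul]
      · obtain ⟨y, -, hπ, -, -⟩ := hsupp z hz0
        exact absurd hx (by rw [← (hz : π z = x), hπ]; exact y.2)
    · let y : J := ⟨x, hx⟩
      have hz0 : β (hYm y (genericPoint (t y).Y')) ≠ 0 := by
        rw [hβ]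
        show α y.1 • (if _ = genericPoint (t y).Y' then (1 : ℤ) else 0) ≠ 0
        rw [if_pos rfl, smul_eq_mul, mul_one]
        exact hx
      obtain ⟨y', he, hπ, hv, hc1⟩ := hsupp _ hz0
      have hyy : y' = y := hdY.idx_unique ⟨_, he.symm⟩ ⟨_, rfl⟩
      subst hyy
      have hinter : π.base ⁻¹' {x} ∩ Function.support (fun z => β z * (AlgebraicCycle.mapCoeff π δT s.δY' z : ℤ)) =
          {hYm y (genericPoint (t y).Y')} ∩
            Function.support (fun z => β z * (AlgebraicCycle.mapCoeff π δT s.δY' z : ℤ)) := by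
        ext z
        refine ⟨fun ⟨hz, hne⟩ => ⟨?_, hne⟩, fun ⟨hz, hne⟩ => ⟨?_, hne⟩⟩
        · obtain ⟨y'', he', hπ', -, -⟩ := hsupp z (left_ne_zero_of_mul hne)
          obtain rfl : y'' = y := Subtype.ext (hπ'.symm.trans hz)
          exact he'
        · rw [Set.mem_singleton_iff] at hz
          subst hz
          exact hπ
      rw [finsum_mem_inter_support_eq _ _ _ hinter, finsum_mem_singleton, hc1, hv, Nat.cast_one, mul_one]
  haveI : IsProper (pullback.snd π s.f') := MorphismProperty.pullback_snd _ _ inferInstance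
  obtain ⟨β', hβ', e₁, e₂⟩ := c.push s (s.paste T₀) π (pullback.snd π s.f') rfl
    pullback.condition.symm rfl k β hβk
  rw [Bivar.cl_congr hmap.symm hα (Bivar.cycMap_mem_Zk π δT s.δY' k hβk), e₂,
    ← pushC_cl (pullback.snd π s.f') hsT hsX.2.2 hδT' hβ', ← e₁, hop, map_zero]

end Groth.Agent.CohDer1.BivarClopen
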