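import Groth.Agent.Bivar15.C1
import Groth.Agent.GysDef28.Zero
import Groth.Agent.AmpleLib.Generated
import Groth.Agent.AmpleLib.Relative
import Groth.Agent.CycLib28.GysinCommute
import Groth.Agent.CycLib28.PB.GysinSquare
import Mathlib.Topology.KrullDimension

/-!
# Products of first Chern classes beyond the dimension
-/

set_option autoImplicit false
set_option linter.style.haveILetI false
set_option linter.unusedSectionVars false
set_option backward.isDefEq.respectTransparency.types false
set_option maxHeartbeats 1000000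

universe u

open AlgebraicGeometry CategoryTheory CategoryTheory.Limits TopologicalSpace Opposite
open Groth.Agent.Coherent Groth.Agent.PicLib Groth.Agent.AmpleLib
open Groth.Agent.CycLib28 Groth.Agent.CycLib28.PB Groth.Agent.CycLib28.PB.Ops Groth.Agent.CycLim28

namespace Groth.Agent.CohDer1.BivarC1

open Groth.Agent.Bivar15

variable {X : Scheme.{u}} {δX : X → ℤ}

/-- All chains of proper specializations out of a point have length less than `n`. -/
def Small : ℕ → X → Prop
  | 0, _ => False
  | n + 1, x => ∀ y, x ⤳ y → y ≠ x → Small n y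

/-- The irreducible closed set of a point. -/
def clPt (x : X) : IrreducibleCloseds X := ⟨closure {x}, isIrreducible_singleton.closure, isClosed_closure⟩

theorem small_of_height (n : ℕ) : ∀ x : X, Order.height (clPt x) < (n : ℕ∞) → Small n x := by
  induction n with
  | zero => intro x h; exact absurd h (by simp)
  | succ n ih =>
    intro x h y hxy hne
    refine ih y ?_
    have hlt : clPt y < clPt x := by
      refine lt_of_le_of_ne ?_ fun e => hne ?_
      · exact closure_minimal (Set.singleton_subset_iff.2 (specializes_iff_mem_closure.1 hxy)) isClosed_closure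
      · have hc : closure {y} = closure {x} := congrArg (fun C : IrreducibleCloseds X => (C : Set X)) e
        exact ((specializes_iff_mem_closure.2 (hc.symm ▸ subset_closure rfl)).antisymm hxy).eq
    have h1 := (Order.height_add_one_le hlt).trans_lt h
    rw [Nat.cast_succ] at h1
    exact lt_of_add_lt_add_right h1

theorem small_of_dim {d : ℕ} (hd : topologicalKrullDim X ≤ (d : WithBot ℕ∞)) (x : X) : Small (d + 1) x := by
  refine small_of_height _ x ?_
  have h := (Order.height_le_krullDim (clPt x)).trans hd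
  have h' : Order.height (clPt x) ≤ (d : ℕ∞) := WithBot.coe_le_coe.1 h
  exact lt_of_le_of_lt h' (by exact_mod_cast Nat.lt_succ_self d)

theorem not_mem_range_zsub {N : X.Modules} (hN : PicF.IsInvertible N) {u : Γ(N, ⊤)} {x : X}
    (hx : x ∈ glocus N u) : x ∉ Set.range (GysDef28.zsub N u).subschemeι := by
  intro h
  rw [(GysDef28.isZeroSchemeOf_zsub hN u).1] at h
  replace h : (Submodule.Quotient.mk ((N.presheaf.germ ⊤ x trivial) u) : Cyc.secFibre N x) = 0 := h
  have hg : IsGen N (glocus N u) (resM N le_top u) := (le_glocus_iff u _).1 le_rfl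
  have h0 : (Submodule.Quotient.mk ((1 : X.presheaf.stalk x) •
      N.presheaf.germ (glocus N u) x hx (resM N le_top u)) : Cyc.secFibre N x) = 0 := by
    rw [one_smul, VarietyLib.germ_resM]
    exact h
  rw [mk_eq_zero_iff_gen hg, map_one] at h0
  exact one_ne_zero h0

variable (s : Bivar.OSq X δX)

/-- The composite of the first Chern classes of a list of modules on the test scheme. -/
noncomputable def opL : List X.Modules → AddMonoid.End (CHT s.Y s.δ)
  | [] => AddMonoidHom.id _
  | M :: l => (opL l).comp (c1 s.δ ((Scheme.Modules.pullback s.g).obj M))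

theorem c1_supported (hX : Cyc.IsSetup X δX) {N : X.Modules} (hN : PicF.IsInvertible N) (u : Γ(N, ⊤)) (η : X)
    (k : ℤ) (α : AlgebraicCycle s.Y ℤ) (hα : α ∈ Cyc.Zk s.Y s.δ k) (hs : ∀ ξ, α ξ ≠ 0 → η ⤳ s.g ξ) :
    ∃ γ : AlgebraicCycle s.Y ℤ, γ ∈ Cyc.Zk s.Y s.δ (k - 1) ∧
      c1 s.δ ((Scheme.Modules.pullback s.g).obj N) (cls s.δ k α) = cls s.δ (k - 1) γ ∧
      ∀ z, γ z ≠ 0 → η ⤳ s.g z ∧ s.g z ∈ Set.range (GysDef28.zsub N u).subschemeι := by
  have hY := isSetup_osq hX s
  haveI := hY.1
  have hM := PicLoc.isInvertible_pullback s.g hN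
  let i := (GysDef28.zsub N u).subschemeι
  obtain ⟨τ, hτ⟩ := exists_isZeroSchemeOf_pullback s.g hN u i (GysDef28.isZeroSchemeOf_zsub hN u)
  haveI : IsClosedImmersion (pullback.fst s.g i) := MorphismProperty.pullback_fst _ _ inferInstance
  obtain ⟨w, hw⟩ := exists_secs hM
  have hv := gysinChoice_ne_zero _ τ w hw
  obtain ⟨γ, hγ⟩ := exists_c1Cap_cycle hY.2.2 hM α _ hv
  refine ⟨γ, c1Cap_mem hα hγ, c1_cls hY.2.2 hM hα hv hγ, fun z hz => ?_⟩
  rw [congrFun hγ z] at hz
  obtain ⟨ξ, hξ⟩ : ∃ ξ, α ξ * Cyc.secDivFun s.δ ((Scheme.Modules.pullback s.g).obj N) ξ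
      (Cyc.gysinChoice ((Scheme.Modules.pullback s.g).obj N) τ w ξ) z ≠ 0 := by
    by_contra hc
    exact hz (finsum_eq_zero_of_forall_eq_zero fun ξ => not_not.1 fun hne => hc ⟨ξ, hne⟩)
  have hsd := right_ne_zero_of_mul hξ
  refine ⟨(hs ξ (left_ne_zero_of_mul hξ)).trans ((?_ : ξ ⤳ z).map s.g.continuous), ?_⟩
  · by_contra hc
    exact hsd (by rw [Cyc.secDivFun, dif_neg fun h => hc h.1])
  · by_contra hc
    refine hsd (secDivFun_gysin_out hY.2.2 hM τ (pullback.fst s.g i) hτ w hw ξ ?_)
    rw [Scheme.Pullback.range_fst]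
    exact hc

/-- The part of a cycle over a subset of `X`. -/
noncomputable def filt (γ : AlgebraicCycle s.Y ℤ) (C : Set X) : AlgebraicCycle s.Y ℤ where
  toFun z := Set.indicator (s.g ⁻¹' C) γ z
  supportWithinDomain' := by simp
  supportLocallyFiniteWithinDomain' := fun x hx => by
    obtain ⟨t, ht, hfin⟩ := γ.supportLocallyFiniteWithinDomain' x hx
    refine ⟨t, ht, hfin.subset fun z hz => ⟨hz.1, fun h0 => hz.2 ?_⟩⟩
    rw [Set.indicator_apply_eq_zero]
    exact fun _ => h0

theorem opL_eq_zero (hX : Cyc.IsSetup X δX) {A : X.Modules} (hA : CohB1.IsAmple A) :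
    ∀ (l : List X.Modules), (∀ M ∈ l, PicF.IsInvertible M) → ∀ (η : X), Small l.length η →
      ∀ (k : ℤ) (α : AlgebraicCycle s.Y ℤ), α ∈ Cyc.Zk s.Y s.δ k → (∀ ξ, α ξ ≠ 0 → η ⤳ s.g ξ) →
        opL s l (cls s.δ k α) = 0 := by
  classical
  intro l
  induction l with
  | nil => intro _ η h; exact h.elim
  | cons M l ih =>
    intro hl η hη k α hα hsupp
    have hY := isSetup_osq hX s
    haveI := hY.1
    haveI := hX.1
    haveI : CompactSpace X := (isAmple_iff_affGlocus.1 hA).2.1
    haveI : IsNoetherian X := {}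
    have hM : PicF.IsInvertible M := hl M List.mem_cons_self
    have hl' : ∀ M' ∈ l, PicF.IsInvertible M' := fun M' h => hl M' (List.mem_cons_of_mem _ h)
    have hO : PicF.IsInvertible (Coh.structureModule X) := isInvertible_structureModule
    obtain ⟨N₁, h₁⟩ := eventually_exists_mem_glocus hA hM
    obtain ⟨N₂, h₂⟩ := eventually_exists_mem_glocus hA hO
    have hP := isInvertible_tensorPow hA.1 (max N₁ N₂)
    -- the classes of sections not vanishing at `η` push a cycle into proper closed subsets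
    have key : ∀ (P : X.Modules) (_ : PicF.IsInvertible P) (u : Γ(P, ⊤)), η ∈ glocus P u →
        opL s l (c1 s.δ ((Scheme.Modules.pullback s.g).obj P) (cls s.δ k α)) = 0 := by
      intro P hP' u hu
      obtain ⟨γ, hγk, hγ, hγs⟩ := c1_supported s hX hP' u η k α hα hsupp
      rw [hγ]
      let K : Set X := closure {η} ∩ Set.range (GysDef28.zsub P u).subschemeι
      have hK : IsClosed K := isClosed_closure.inter
        (GysDef28.zsub P u).subschemeι.isClosedEmbedding.isClosed_range
      obtain ⟨S, hSf, hSc, hSi, hS⟩ := NoetherianSpace.exists_finite_set_isClosed_irreducible hK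
      have main : ∀ T : Finset (Set X), (∀ C ∈ T, C ∈ S) → ∀ γ' : AlgebraicCycle s.Y ℤ,
          γ' ∈ Cyc.Zk s.Y s.δ (k - 1) → (∀ z, γ' z ≠ 0 → ∃ C ∈ T, s.g z ∈ C) →
            opL s l (cls s.δ (k - 1) γ') = 0 := by
        intro T
        induction T using Finset.induction_on with
        | empty =>
          intro _ γ' _ hz
          have : γ' = 0 := DFunLike.ext _ _ fun z => by
            by_contra h
            obtain ⟨C, hC, -⟩ := hz z h
            simp at hC
          rw [this, cls_zero, map_zero]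
        | insert C T _ ihT =>
          intro hTS γ' hγ' hz
          have hf : filt s γ' C ∈ Cyc.Zk s.Y s.δ (k - 1) := fun z hz' => by
            show Set.indicator (s.g ⁻¹' C) γ' z = 0
            rw [Set.indicator_apply_eq_zero]
            exact fun _ => hγ' z hz'
          have hr : γ' - filt s γ' C ∈ Cyc.Zk s.Y s.δ (k - 1) := (ChowOps.zk _ _ _).sub_mem hγ' hf
          have hsum : γ' = filt s γ' C + (γ' - filt s γ' C) := by abel
          rw [hsum, cls_add hf hr, map_add]
          have hC : C ∈ S := hTS C (Finset.mem_insert_self _ _)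
          have hCc := hSc C hC
          have hCi := hSi C hC
          have hgen := hCi.isGenericPoint_genericPoint hCc
          have hCK : C ⊆ K := hS ▸ Set.subset_sUnion_of_mem hC
          have hgK : hCi.genericPoint ∈ K := hCK hgen.mem
          have hne : hCi.genericPoint ≠ η := fun e => not_mem_range_zsub hP' hu (e ▸ hgK.2)
          have hsm : Small l.length hCi.genericPoint :=
            hη _ (specializes_iff_mem_closure.2 hgK.1) hne
          rw [ih hl' _ hsm (k - 1) (filt s γ' C) hf fun z hz' => ?_,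
            ihT (fun C' h => hTS C' (Finset.mem_insert_of_mem h)) _ hr fun z hz' => ?_, add_zero]
          · have hne' : γ' z - Set.indicator (s.g ⁻¹' C) γ' z ≠ 0 := hz'
            have hzC : z ∉ s.g ⁻¹' C := fun h => hne' (by rw [Set.indicator_of_mem h, sub_self])
            rw [Set.indicator_of_notMem hzC, sub_zero] at hne'
            obtain ⟨C', hC', hm⟩ := hz z hne'
            exact ⟨C', (Finset.mem_insert.1 hC').resolve_left fun e => hzC (e ▸ hm), hm⟩
          · refine hgen.specializes ?_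
            by_contra hc
            exact hz' (Set.indicator_of_notMem (show z ∉ s.g ⁻¹' C from hc) _)
      refine main hSf.toFinset (fun C h => hSf.mem_toFinset.1 h) γ hγk fun z hz => ?_
      obtain ⟨h1, h2⟩ := hγs z hz
      have hmem : s.g z ∈ K := ⟨specializes_iff_mem_closure.1 h1, h2⟩
      rw [hS] at hmem
      obtain ⟨C, hC, hzC⟩ := hmem
      exact ⟨C, hSf.mem_toFinset.2 hC, hzC⟩
    obtain ⟨u₁, hu₁⟩ := h₁ _ (le_max_left N₁ N₂) η
    obtain ⟨u₂, hu₂⟩ := h₂ _ (le_max_right N₁ N₂) η
    have hsplit : ∀ Q : X.Modules, PicF.IsInvertible Q →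
        c1 s.δ ((Scheme.Modules.pullback s.g).obj (CohB1.tensorMod Q (CohB1.tensorPow A (max N₁ N₂)))) =
          c1 s.δ ((Scheme.Modules.pullback s.g).obj Q) +
            c1 s.δ ((Scheme.Modules.pullback s.g).obj (CohB1.tensorPow A (max N₁ N₂))) := fun Q hQ => by
      obtain ⟨e⟩ := exists_pullTensorIso s.g hQ hP
      rw [c1_iso hY.2.2 (PicLoc.isInvertible_pullback s.g (isInvertible_tensorMod hQ hP))
        (isInvertible_tensorMod (PicLoc.isInvertible_pullback s.g hQ) (PicLoc.isInvertible_pullback s.g hP)) e,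
        c1_tensor hY.2.2 (PicLoc.isInvertible_pullback s.g hQ) (PicLoc.isInvertible_pullback s.g hP)]
    have hzero : c1 s.δ ((Scheme.Modules.pullback s.g).obj (Coh.structureModule X)) = 0 := by
      rw [c1_iso hY.2.2 (PicLoc.isInvertible_pullback s.g hO) isInvertible_structureModule
        (exists_pullStructureIso s.g).some, c1_structureModule hY.2.2]
    have k1 := key _ (isInvertible_tensorMod hM hP) u₁ hu₁
    have k2 := key _ (isInvertible_tensorMod hO hP) u₂ hu₂
    rw [hsplit _ hM] at k1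
    rw [hsplit _ hO, hzero, zero_add] at k2
    show opL s l (c1 s.δ ((Scheme.Modules.pullback s.g).obj M) (cls s.δ k α)) = 0
    rw [show ∀ (F G : AddMonoid.End (CHT s.Y s.δ)) (v : CHT s.Y s.δ), (F + G) v = F v + G v from
      fun _ _ _ => rfl, map_add, k2, add_zero] at k1
    exact k1

theorem cls_of_chCast {Y : Scheme.{u}} {δ : Y → ℤ} {k l : ℤ} (e : k = l) (a : ChowOps.CH Y δ k) :
    DirectSum.of (fun k => ChowOps.CH Y δ k) l (Bivar.chCast Y δ e a) =
      DirectSum.of (fun k => ChowOps.CH Y δ k) k a := by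
  subst e
  rfl

/-- The list `L j, …, L (j + m - 1)`. -/
def chain (L : ℕ → X.Modules) : ℕ → ℕ → List X.Modules
  | _, 0 => []
  | j, m + 1 => L j :: chain L (j + 1) m

theorem length_chain (L : ℕ → X.Modules) : ∀ j m, (chain L j m).length = m
  | _, 0 => rfl
  | j, m + 1 => congrArg (· + 1) (length_chain L (j + 1) m)

theorem mem_chain (L : ℕ → X.Modules) : ∀ j m, ∀ M ∈ chain L j m, ∃ i, j ≤ i ∧ i < j + m ∧ M = L i
  | _, 0, M, h => by simp [chain] at h
  | j, m + 1, M, h => by
    rcases List.mem_cons.1 h with rfl | h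
    · exact ⟨j, le_rfl, by omega, rfl⟩
    · obtain ⟨i, h1, h2, h3⟩ := mem_chain L (j + 1) m M h
      exact ⟨i, by omega, by omega, h3⟩

theorem chain_eq_zero (hX : Cyc.IsSetup X δX) {A : X.Modules} (hA : CohB1.IsAmple A) {d : ℕ}
    (hd : topologicalKrullDim X ≤ (d : WithBot ℕ∞)) (L : ℕ → X.Modules) (c : ℕ → Bivar.OpCl 1 X δX)
    (hc : ∀ j, j ≤ d → Bivar.IsC1Class (L j) (c j)) (k : ℤ) (x : (j : ℕ) → ChowOps.CH s.Y s.δ (k - (j : ℤ)))
    (hx : ∀ j, j ≤ d → (c j).op s (k - (j : ℤ)) (x j) = Bivar.chCast s.Y s.δ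
      (((congrArg (fun t : ℤ => k - t) (Nat.cast_succ j)).trans (sub_sub k (j : ℤ) 1).symm)) (x (j + 1))) :
    x (d + 1) = 0 := by
  classical
  have hY := isSetup_osq hX s
  haveI := hY.1
  haveI := hX.1
  haveI : CompactSpace X := (isAmple_iff_affGlocus.1 hA).2.1
  haveI : IsNoetherian X := {}
  let O : ∀ j : ℕ, CHT s.Y s.δ := fun j => DirectSum.of (fun k => ChowOps.CH s.Y s.δ k) (k - (j : ℤ)) (x j)
  have step : ∀ j, j ≤ d → c1 s.δ ((Scheme.Modules.pullback s.g).obj (L j)) (O j) = O (j + 1) := by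
    intro j hj
    obtain ⟨α, hα, hαx⟩ := Bivar.exists_rep (x j)
    have hM := PicLoc.isInvertible_pullback s.g (hc j hj).1
    obtain ⟨v, hv⟩ := exists_secs hM
    obtain ⟨γ, hγ⟩ := exists_c1Cap_cycle hY.2.2 hM α v hv
    have hγk := c1Cap_mem hα hγ
    show c1 s.δ _ (DirectSum.of (fun k => ChowOps.CH s.Y s.δ k) (k - (j : ℤ)) (x j)) = _
    rw [← hαx, ← cls_eq hα, c1_cls hY.2.2 hM hα hv hγ, cls_eq hγk,
      ← (hc j hj).2 s (k - (j : ℤ)) α hα v hv γ hγ hγk, hαx, hx j hj, cls_of_chCast]
  have tele : ∀ m j, j + m = d + 1 → opL s (chain L j m) (O j) = O (d + 1) := by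
    intro m
    induction m with
    | zero => intro j h; obtain rfl : j = d + 1 := h; rfl
    | succ m ih =>
      intro j h
      show opL s (chain L (j + 1) m) (c1 s.δ ((Scheme.Modules.pullback s.g).obj (L j)) (O j)) = _
      rw [step j (by omega), ih (j + 1) (by omega)]
  have h0 : opL s (chain L 0 (d + 1)) (O 0) = 0 := by
    obtain ⟨α, hα, hαx⟩ := Bivar.exists_rep (x 0)
    show opL s _ (DirectSum.of (fun k => ChowOps.CH s.Y s.δ k) (k - ((0 : ℕ) : ℤ)) (x 0)) = 0
    rw [← hαx, ← cls_eq hα]
    have hl : ∀ M ∈ chain L 0 (d + 1), PicF.IsInvertible M := fun M hM => by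
      obtain ⟨i, -, h2, rfl⟩ := mem_chain L 0 (d + 1) M hM
      exact (hc i (by omega)).1
    obtain ⟨S, hSf, hSc, hSi, hS⟩ :=
      NoetherianSpace.exists_finite_set_isClosed_irreducible (isClosed_univ : IsClosed (Set.univ : Set X))
    have main : ∀ T : Finset (Set X), (∀ C ∈ T, C ∈ S) → ∀ γ' : AlgebraicCycle s.Y ℤ,
        γ' ∈ Cyc.Zk s.Y s.δ (k - ((0 : ℕ) : ℤ)) → (∀ z, γ' z ≠ 0 → ∃ C ∈ T, s.g z ∈ C) →
          opL s (chain L 0 (d + 1)) (cls s.δ (k - ((0 : ℕ) : ℤ)) γ') = 0 := by
      intro T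
      induction T using Finset.induction_on with
      | empty =>
        intro _ γ' _ hz
        have : γ' = 0 := DFunLike.ext _ _ fun z => by
          by_contra h
          obtain ⟨C, hC, -⟩ := hz z h
          simp at hC
        rw [this, cls_zero, map_zero]
      | insert C T _ ihT =>
        intro hTS γ' hγ' hz
        have hf : filt s γ' C ∈ Cyc.Zk s.Y s.δ (k - ((0 : ℕ) : ℤ)) := fun z hz' => by
          show Set.indicator (s.g ⁻¹' C) γ' z = 0
          rw [Set.indicator_apply_eq_zero]
          exact fun _ => hγ' z hz'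
        have hr : γ' - filt s γ' C ∈ Cyc.Zk s.Y s.δ (k - ((0 : ℕ) : ℤ)) := (ChowOps.zk _ _ _).sub_mem hγ' hf
        have hsum : γ' = filt s γ' C + (γ' - filt s γ' C) := by abel
        rw [hsum, cls_add hf hr, map_add]
        have hC : C ∈ S := hTS C (Finset.mem_insert_self _ _)
        have hgen := (hSi C hC).isGenericPoint_genericPoint (hSc C hC)
        rw [opL_eq_zero s hX hA _ hl (hSi C hC).genericPoint (by rw [length_chain]; exact small_of_dim hd _)
            _ (filt s γ' C) hf fun z hz' => ?_,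
          ihT (fun C' h => hTS C' (Finset.mem_insert_of_mem h)) _ hr fun z hz' => ?_, add_zero]
        · have hne' : γ' z - Set.indicator (s.g ⁻¹' C) γ' z ≠ 0 := hz'
          have hzC : z ∉ s.g ⁻¹' C := fun h => hne' (by rw [Set.indicator_of_mem h, sub_self])
          rw [Set.indicator_of_notMem hzC, sub_zero] at hne'
          obtain ⟨C', hC', hm⟩ := hz z hne'
          exact ⟨C', (Finset.mem_insert.1 hC').resolve_left fun e => hzC (e ▸ hm), hm⟩
        · refine hgen.specializes ?_
          by_contra hc'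
          exact hz' (Set.indicator_of_notMem (show z ∉ s.g ⁻¹' C from hc') _)
    refine main hSf.toFinset (fun C h => hSf.mem_toFinset.1 h) α hα fun z _ => ?_
    have hmem : s.g z ∈ (Set.univ : Set X) := trivial
    rw [hS] at hmem
    obtain ⟨C, hC, hzC⟩ := hmem
    exact ⟨C, hSf.mem_toFinset.2 hC, hzC⟩
  rw [tele (d + 1) 0 (zero_add _)] at h0
  exact DirectSum.of_injective (k - ((d + 1 : ℕ) : ℤ)) (h0.trans (map_zero _).symm)

end Groth.Agent.CohDer1.BivarC1
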