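import Groth.Agent.Bivar15.Basic
import Groth.Agent.Bivar15.GysinSq
import Groth.Agent.CycLib28.Sp.Fibre

/-!
# Chow groups of a scheme decomposed into open and closed pieces
-/

set_option autoImplicit false
set_option linter.style.haveILetI false
set_option backward.isDefEq.respectTransparency.types false

universe u

open AlgebraicGeometry CategoryTheory
open Groth.Agent.CycLib28 Groth.Agent.CycLib28.PB Groth.Agent.CycLib28.PB.Ops Groth.Agent.CycLim28

namespace Groth.Agent.CohDer1.BivarClopen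

open Groth.Agent.Bivar15

variable {A B : Scheme.{u}}

/-- Restriction of a cycle along an open immersion. -/
def restrictCyc (e : A ⟶ B) [IsOpenImmersion e] (γ : AlgebraicCycle B ℤ) : AlgebraicCycle A ℤ where
  toFun a := γ (e a)
  supportWithinDomain' := by simp
  supportLocallyFiniteWithinDomain' := fun a _ => by
    obtain ⟨t, ht, hfin⟩ := γ.supportLocallyFiniteWithinDomain' (e a) (Set.mem_univ _)
    refine ⟨e ⁻¹' t, e.continuous.continuousAt ht, ?_⟩
    exact (hfin.preimage e.isOpenEmbedding.injective.injOn).subset fun z hz => hz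

@[simp] theorem restrictCyc_apply (e : A ⟶ B) [IsOpenImmersion e] (γ : AlgebraicCycle B ℤ) (a : A) :
    restrictCyc e γ a = γ (e a) := rfl

theorem restrictCyc_mem (e : A ⟶ B) [IsOpenImmersion e] {δA : A → ℤ} {δ : B → ℤ} (hδA : ∀ a, δA a = δ (e a))
    {k : ℤ} {γ : AlgebraicCycle B ℤ} (hγ : γ ∈ Cyc.Zk B δ k) : restrictCyc e γ ∈ Cyc.Zk A δA k :=
  fun a ha => hγ (e a) (hδA a ▸ ha)

theorem pullFun_restrict (e : A ⟶ B) [IsOpenImmersion e] {δA : A → ℤ} {δ : B → ℤ} (hδA : ∀ a, δA a = δ (e a))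
    (f : B → ℤ) : Cyc.pullFun e δA δ 0 f = fun a => f (e a) := by
  funext a
  rw [pullFun_eq e δA δ 0 (fun w _ => by rw [hδA, add_zero]), Sp.lenFibre_openImmersion e, ENat.toNat_one,
    Nat.cast_one, mul_one]

/-- Restriction of Chow classes along an open immersion. -/
noncomputable def resC (e : A ⟶ B) (δA : A → ℤ) (δ : B → ℤ) (k : ℤ) :
    ChowOps.CH B δ k →+ ChowOps.CH A δA k :=
  comp₀ (pull e δA δ 0) k k

theorem resC_cl (e : A ⟶ B) [IsOpenImmersion e] {δA : A → ℤ} {δ : B → ℤ} (hδA : ∀ a, δA a = δ (e a))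
    (hA : Cyc.IsSetup A δA) (hB : Cyc.IsSetup B δ) {k : ℤ} {γ : AlgebraicCycle B ℤ} (hγ : γ ∈ Cyc.Zk B δ k) :
    resC e δA δ k (ChowOps.cl γ hγ) = ChowOps.cl (restrictCyc e γ) (restrictCyc_mem e hδA hγ) := by
  haveI := hA.1
  haveI := hB.1
  refine comp₀_cl _ hγ _ ?_
  rw [pull_cls e hA.2.2 hB.2.2 (fun w _ => by rw [hδA, add_zero]) hγ (β := restrictCyc e γ)
    (pullFun_restrict e hδA _).symm, add_zero]

variable {W : Scheme.{u}} {J : Type u} {V : J → Scheme.{u}} (h : ∀ j, V j ⟶ W) [∀ j, IsOpenImmersion (h j)]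

/-- The images of the maps cover `W` and are pairwise disjoint. -/
structure IsDecomp : Prop where
  disj : ∀ j j', j ≠ j' → Disjoint (Set.range (h j)) (Set.range (h j'))
  cov : ∀ w, ∃ j, w ∈ Set.range (h j)

set_option linter.unusedSectionVars false

variable {h}

theorem IsDecomp.idx_unique (hd : IsDecomp h) {j j' : J} {w : W} (hj : w ∈ Set.range (h j))
    (hj' : w ∈ Set.range (h j')) : j = j' := by
  by_contra hne
  exact Set.disjoint_left.1 (hd.disj j j' hne) hj hj'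

theorem IsDecomp.isClosed_range (hd : IsDecomp h) (j : J) : IsClosed (Set.range (h j)) := by
  rw [← isOpen_compl_iff, isOpen_iff_forall_mem_open]
  intro w hw
  obtain ⟨j', hj'⟩ := hd.cov w
  refine ⟨Set.range (h j'), fun z hz hzj => ?_, (h j').isOpenEmbedding.isOpen_range, hj'⟩
  exact hw (hd.idx_unique hzj hz ▸ hj')

theorem IsDecomp.isClosedImmersion (hd : IsDecomp h) (j : J) : IsClosedImmersion (h j) :=
  IsClosedImmersion.of_isPreimmersion _ (hd.isClosed_range j)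

theorem exists_glue (hd : IsDecomp h) (β : ∀ j, AlgebraicCycle (V j) ℤ) :
    ∃ γ : AlgebraicCycle W ℤ, ∀ j v, γ (h j v) = β j v := by
  classical
  have hcov : ∀ w, ∃ p : Σ j, V j, h p.1 p.2 = w := fun w => by
    obtain ⟨j, v, hv⟩ := hd.cov w
    exact ⟨⟨j, v⟩, hv⟩
  choose p hp using hcov
  have key : ∀ j v, β (p (h j v)).1 (p (h j v)).2 = β j v := by
    intro j v
    have h1 := hp (h j v)
    generalize p (h j v) = q at h1
    obtain ⟨j', v'⟩ := q
    obtain rfl : j' = j := hd.idx_unique ⟨v', h1⟩ ⟨v, rfl⟩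
    rw [(h j').isOpenEmbedding.injective h1]
  refine ⟨{ toFun := fun w => β (p w).1 (p w).2
            supportWithinDomain' := by simp
            supportLocallyFiniteWithinDomain' := fun w _ => ?_ }, key⟩
  obtain ⟨j, v, rfl⟩ := hd.cov w
  obtain ⟨t, ht, hfin⟩ := (β j).supportLocallyFiniteWithinDomain' v (Set.mem_univ v)
  refine ⟨h j '' t, (h j).isOpenEmbedding.isOpenMap.image_mem_nhds ht, (hfin.image (h j)).subset ?_⟩
  rintro _ ⟨⟨z, hz, rfl⟩, hne⟩
  exact ⟨z, ⟨hz, fun h0 => hne ((key j z).trans h0)⟩, rfl⟩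

theorem ratEquivZero_glue (hd : IsDecomp h) {δ : W → ℤ} (hW : Cyc.IsSetup W δ) (k : ℤ)
    (γ : AlgebraicCycle W ℤ)
    (H : ∀ j, Cyc.RatEquivZero (fun v => δ (h j v)) k (restrictCyc (h j) γ)) : Cyc.RatEquivZero δ k γ := by
  classical
  haveI := hW.1
  have hV : ∀ j, IsLocallyNoetherian (V j) := fun j => isLocallyNoetherian_of_isOpenImmersion (h j)
  have hci : ∀ j, IsClosedImmersion (h j) := fun j => hd.isClosedImmersion j
  have H' : ∀ j, Cyc.RatEquivZero δ k
      (AlgebraicCycle.map (h j) (fun v => δ (h j v)) δ (restrictCyc (h j) γ)) := fun j =>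
    map_ratEquivZero (isDimFun_comp_closedImmersion (h j) hW.2.2) hW.2.2 (h j)
      (deltaCompat_preimmersion (h j) δ) k _ (H j)
  choose ι ξ f hξ hf hloc hsum using H'
  let K : Type u := Σ j, { i : ι j // ξ j i ∈ Set.range (h j) }
  refine ⟨K, fun q => ξ q.1 q.2.1, fun q => f q.1 q.2.1, fun q => hξ _ _, fun q => hf _ _, fun x => ?_,
    fun x => ?_⟩
  · obtain ⟨j, hj⟩ := hd.cov x
    obtain ⟨U, hU, hxU, hfin⟩ := hloc j x
    refine ⟨U ∩ Set.range (h j), hU.inter (h j).isOpenEmbedding.isOpen_range, ⟨hxU, hj⟩, ?_⟩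
    have hq : ∀ q : K, (closure {ξ q.1 q.2.1} ∩ (U ∩ Set.range (h j))).Nonempty → q.1 = j := by
      rintro q ⟨z, hz, -, hzj⟩
      exact hd.idx_unique
        (closure_minimal (Set.singleton_subset_iff.2 q.2.2) (hd.isClosed_range q.1) hz) hzj
    refine ((hfin.preimage (f := fun a : { i : ι j // ξ j i ∈ Set.range (h j) } => a.1)
      Subtype.val_injective.injOn).image (fun a => (⟨j, a⟩ : K))).subset ?_
    rintro ⟨j', a⟩ ha
    obtain rfl : j' = j := hq _ ha
    obtain ⟨z, hz, hzU, -⟩ := ha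
    exact ⟨a, ⟨z, hz, hzU⟩, rfl⟩
  · obtain ⟨j, v, rfl⟩ := hd.cov x
    have h1 := hsum j (h j v)
    rw [map_closedImmersion_apply (h j) δ, restrictCyc_apply] at h1
    rw [h1]
    have hsupp : ∀ (j' : J) (i : ι j'), Cyc.divFun δ (ξ j' i) (f j' i) (h j v) ≠ 0 →
        ξ j' i ∈ Set.range (h j) := fun j' i hne => by
      by_contra hc
      apply hne
      rw [Cyc.divFun, dif_neg]
      exact fun hh => hc (hh.1.mem_open (h j).isOpenEmbedding.isOpen_range ⟨v, rfl⟩)
    let emb : { i : ι j // ξ j i ∈ Set.range (h j) } → K := fun a => ⟨j, a⟩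
    have e1 : ∑ᶠ i, Cyc.divFun δ (ξ j i) (f j i) (h j v) =
        ∑ᶠ a : { i : ι j // ξ j i ∈ Set.range (h j) }, Cyc.divFun δ (ξ j a.1) (f j a.1) (h j v) := by
      rw [finsum_subtype_eq_finsum_cond (f := fun i => Cyc.divFun δ (ξ j i) (f j i) (h j v))
        (p := fun i => ξ j i ∈ Set.range (h j))]
      refine finsum_congr fun i => ?_
      by_cases hi : ξ j i ∈ Set.range (h j)
      · rw [finsum_eq_if, if_pos hi]
      · rw [finsum_eq_if, if_neg hi]
        exact not_not.1 (mt (hsupp j i) hi)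
    rw [e1, ← finsum_mem_range' (f := fun q : K => Cyc.divFun δ (ξ q.1 q.2.1) (f q.1 q.2.1) (h j v))
      (g := emb) (fun a _ b _ hab => eq_of_heq (Sigma.mk.inj_iff.1 hab).2)]
    rw [← finsum_mem_univ (f := fun q : K => Cyc.divFun δ (ξ q.1 q.2.1) (f q.1 q.2.1) (h j v))]
    refine finsum_mem_inter_support_eq' _ _ _ fun q hq => ⟨fun _ => Set.mem_univ _, fun _ => ?_⟩
    obtain ⟨j', i, hi⟩ := q
    obtain rfl : j' = j := hd.idx_unique hi (hsupp j' i hq)
    exact ⟨⟨i, hi⟩, rfl⟩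

theorem eq_of_resC_eq (hd : IsDecomp h) {δ : W → ℤ} (hW : Cyc.IsSetup W δ) {δV : ∀ j, V j → ℤ}
    (hδV : ∀ j v, δV j v = δ (h j v)) {k : ℤ} (a b : ChowOps.CH W δ k)
    (hab : ∀ j, resC (h j) (δV j) δ k a = resC (h j) (δV j) δ k b) : a = b := by
  haveI := hW.1
  obtain ⟨α, hα, rfl⟩ := Bivar.exists_rep a
  obtain ⟨β, hβ, rfl⟩ := Bivar.exists_rep b
  refine (cl_eq_iff hW.2.2 hα hβ).2 (ratEquivZero_glue hd hW k _ fun j => ?_)
  haveI := hd.isClosedImmersion j
  have hVj : Cyc.IsSetup (V j) (δV j) := by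
    rw [show δV j = fun v => δ (h j v) from funext (hδV j)]
    exact isSetup_of_deltaCompat (h j) hW (deltaCompat_preimmersion (h j) δ)
  haveI := hVj.1
  have := hab j
  rw [resC_cl _ (hδV j) hVj hW, resC_cl _ (hδV j) hVj hW, cl_eq_iff hVj.2.2] at this
  rw [show δV j = fun v => δ (h j v) from funext (hδV j)] at this
  exact this

theorem exists_resC_eq (hd : IsDecomp h) {δ : W → ℤ} (hW : Cyc.IsSetup W δ) {δV : ∀ j, V j → ℤ}
    (hδV : ∀ j v, δV j v = δ (h j v)) {k : ℤ} (a : ∀ j, ChowOps.CH (V j) (δV j) k) :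
    ∃ b : ChowOps.CH W δ k, ∀ j, resC (h j) (δV j) δ k b = a j := by
  choose α hα hαa using fun j => Bivar.exists_rep (a j)
  obtain ⟨γ, hγ⟩ := exists_glue hd α
  have hγk : γ ∈ Cyc.Zk W δ k := by
    intro w hw
    obtain ⟨j, v, rfl⟩ := hd.cov w
    rw [hγ]
    exact hα j v (by rw [hδV]; exact hw)
  refine ⟨ChowOps.cl γ hγk, fun j => ?_⟩
  haveI := hd.isClosedImmersion j
  have hVj : Cyc.IsSetup (V j) (δV j) := by
    rw [show δV j = fun v => δ (h j v) from funext (hδV j)]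
    exact isSetup_of_deltaCompat (h j) hW (deltaCompat_preimmersion (h j) δ)
  rw [resC_cl _ (hδV j) hVj hW, ← hαa j]
  exact Bivar.cl_congr (DFunLike.ext _ _ fun v => hγ j v) _ _

end Groth.Agent.CohDer1.BivarClopen
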