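import Groth.Agent.CohDer1.Bivar.Pieces
import Groth.Agent.Bivar15.FlatPull

/-!
# Morphisms of test squares on the pieces
-/

set_option autoImplicit false
set_option linter.style.haveILetI false
set_option backward.isDefEq.respectTransparency.types false
set_option linter.unusedSectionVars false
set_option maxHeartbeats 1000000

universe u

open AlgebraicGeometry CategoryTheory CategoryTheory.Limits
open Groth.Agent.CycLib28 Groth.Agent.CycLib28.PB Groth.Agent.CycLib28.PB.Ops Groth.Agent.CycLim28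

namespace Groth.Agent.CohDer1.BivarClopen

open Groth.Agent.Bivar15

variable {X Y : Scheme.{u}} {f : X ⟶ Y} {δX : X → ℤ} {δY : Y → ℤ}
variable (σ : Bivar.Sq f δX δY) [IsOpenImmersion σ.g] [IsClosedImmersion σ.g]

theorem exists_pieceHom (s t : Bivar.Sq f δX δY) (h : t.Y' ⟶ s.Y') (h' : t.X' ⟶ s.X')
    (w₁ : h ≫ s.g = t.g) (w₂ : h' ≫ s.f' = t.f' ≫ h) (w₃ : h' ≫ s.g' = t.g') :
    ∃ (hj : (piece t σ).Y' ⟶ (piece s σ).Y') (hj' : (piece t σ).X' ⟶ (piece s σ).X'),
      hj ≫ (piece s σ).g = (piece t σ).g ∧ hj' ≫ (piece s σ).f' = (piece t σ).f' ≫ hj ∧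
      hj' ≫ (piece s σ).g' = (piece t σ).g' ∧
      IsPullback hj (pY t σ) (pY s σ) h ∧ IsPullback hj' (pX t σ) (pX s σ) h' := by
  let hj : pullback t.g σ.g ⟶ pullback s.g σ.g :=
    pullback.lift (pY t σ ≫ h) (pullback.snd t.g σ.g) (by rw [Category.assoc, w₁, pullback.condition])
  have e1 : hj ≫ pY s σ = pY t σ ≫ h := pullback.lift_fst _ _ _
  have e2 : hj ≫ pullback.snd s.g σ.g = pullback.snd t.g σ.g := pullback.lift_snd _ _ _
  let hj' : pullback t.f' (pY t σ) ⟶ pullback s.f' (pY s σ) :=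
    pullback.lift (pX t σ ≫ h') (pullback.snd t.f' (pY t σ) ≫ hj)
      (by rw [Category.assoc, w₂, ← Category.assoc, pullback.condition, Category.assoc, Category.assoc, e1])
  have e3 : hj' ≫ pX s σ = pX t σ ≫ h' := pullback.lift_fst _ _ _
  have e4 : hj' ≫ pullback.snd s.f' (pY s σ) = pullback.snd t.f' (pY t σ) ≫ hj := pullback.lift_snd _ _ _
  have sqY : IsPullback hj (pY t σ) (pY s σ) h := by
    refine IsPullback.of_right ?_ e1 (IsPullback.of_hasPullback s.g σ.g).flip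
    rw [e2, w₁]
    exact (IsPullback.of_hasPullback t.g σ.g).flip
  have sqX : IsPullback hj' (pX t σ) (pX s σ) h' := by
    refine IsPullback.of_right ?_ e3 (IsPullback.of_hasPullback s.f' (pY s σ)).flip
    rw [e4, w₂]
    exact (IsPullback.of_hasPullback t.f' (pY t σ)).flip.paste_horiz sqY
  refine ⟨hj, hj', e2, e4, σ.isPullback.hom_ext ?_ ?_, sqY, sqX⟩
  · rw [Category.assoc, σ.isPullback.lift_fst, σ.isPullback.lift_fst, ← Category.assoc, e4, Category.assoc, e2]
  · rw [Category.assoc, σ.isPullback.lift_snd, σ.isPullback.lift_snd, ← Category.assoc, e3, Category.assoc, w₃]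

variable {P P' A A' : Scheme.{u}}

theorem restrict_pullFun (π : P ⟶ A) [IsOpenImmersion π] (π' : P' ⟶ A') [IsOpenImmersion π'] (h : A' ⟶ A)
    [Flat h] [LocallyOfFiniteType h] (hj : P' ⟶ P) [Flat hj] [LocallyOfFiniteType hj]
    (w : hj ≫ π = π' ≫ h) {δA : A → ℤ} {δA' : A' → ℤ} {δP : P → ℤ} {δP' : P' → ℤ}
    (hP : ∀ a, δP a = δA (π a)) (hP' : ∀ a, δP' a = δA' (π' a)) {r : ℤ}
    (hc : ∀ x, GenInFibre h x → δA' x = δA (h x) + r)
    (hcj : ∀ x, GenInFibre hj x → δP' x = δP (hj x) + r) (φ : A → ℤ) :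
    (fun a => Cyc.pullFun h δA' δA r φ (π' a)) = Cyc.pullFun hj δP' δP r (fun a => φ (π a)) := by
  rw [← pullFun_restrict π hP φ, ← pullFun_restrict π' hP' (Cyc.pullFun h δA' δA r φ),
    (pullFun_comp π' h δP' δA' δA 0 r (fun x _ => by rw [hP', add_zero]) hc φ).2,
    (pullFun_comp hj π δP' δP δA r 0 hcj (fun x _ => by rw [hP, add_zero]) φ).2, zero_add, add_zero]
  exact congrArg (fun m => Cyc.pullFun m δP' δA r φ) w.symm

end Groth.Agent.CohDer1.BivarClopen
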