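import Groth.Agent.CohDer1.Bivar.Hom

/-!
# Bivariant classes over an open and closed decomposition of the base
-/

set_option autoImplicit false
set_option linter.style.haveILetI false
set_option backward.isDefEq.respectTransparency.types false
set_option linter.unusedSectionVars false
set_option maxHeartbeats 2000000

universe u

open AlgebraicGeometry CategoryTheory CategoryTheory.Limits
open Groth.Agent.CycLib28 Groth.Agent.CycLib28.PB Groth.Agent.CycLib28.PB.Ops Groth.Agent.CycLim28

namespace Groth.Agent.CohDer1.BivarClopen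

open Groth.Agent.Bivar15

variable {X Y : Scheme.{u}} {f : X ⟶ Y} {δX : X → ℤ} {δY : Y → ℤ} {J : Type u} {σ : J → Bivar.Sq f δX δY}
  [∀ j, IsOpenImmersion (σ j).g] [∀ j, IsClosedImmersion (σ j).g]

theorem decompY (hd : IsDecomp (fun j => (σ j).g)) (s : Bivar.Sq f δX δY) :
    IsDecomp (fun j => pY s (σ j)) := by
  refine ⟨fun j j' hne => ?_, fun y => ?_⟩
  · rw [Scheme.Pullback.range_fst, Scheme.Pullback.range_fst]
    exact (hd.disj j j' hne).preimage _
  · obtain ⟨j, hj⟩ := hd.cov (s.g y)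
    exact ⟨j, by rw [Scheme.Pullback.range_fst]; exact hj⟩

theorem decompX (hd : IsDecomp (fun j => (σ j).g)) (s : Bivar.Sq f δX δY) :
    IsDecomp (fun j => pX s (σ j)) := by
  refine ⟨fun j j' hne => ?_, fun y => ?_⟩
  · rw [Scheme.Pullback.range_fst (f := s.f') (g := pY s (σ j)),
      Scheme.Pullback.range_fst (f := s.f') (g := pY s (σ j'))]
    exact ((decompY hd s).disj j j' hne).preimage _
  · obtain ⟨j, hj⟩ := (decompY hd s).cov (s.f' y)
    exact ⟨j, by rw [Scheme.Pullback.range_fst]; exact hj⟩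

theorem setupPY (hY : Cyc.IsSetup Y δY) (s : Bivar.Sq f δX δY) (j : J) :
    Cyc.IsSetup (piece s (σ j)).Y' (piece s (σ j)).δY' :=
  isSetup_of_deltaCompat (pY s (σ j)) (setupY hY s) (deltaCompat_preimmersion _ s.δY')

theorem setupPX (hX : Cyc.IsSetup X δX) (s : Bivar.Sq f δX δY) (j : J) :
    Cyc.IsSetup (piece s (σ j)).X' (piece s (σ j)).δX' :=
  isSetup_of_deltaCompat (pX s (σ j)) (setupX hX s) (deltaCompat_preimmersion _ s.δX')

theorem res_injective (hX : Cyc.IsSetup X δX) (hY : Cyc.IsSetup Y δY) (hd : IsDecomp (fun j => (σ j).g))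
    {p : ℤ} (c d : Bivar.Cl p f δX δY) (hcd : ∀ j, c.res (σ j) = d.res (σ j)) : c = d := by
  refine Bivar.Cl.ext (funext fun s => funext fun k => AddMonoidHom.ext fun a => ?_)
  refine eq_of_resC_eq (decompX hd s) (setupX hX s) (δV := fun j => (piece s (σ j)).δX') (fun _ _ => rfl) _ _
    fun j => ?_
  have key : ∀ e : Bivar.Cl p f δX δY, resC (pX s (σ j)) (piece s (σ j)).δX' s.δX' (k - p) (e.op s k a) =
      (e.res (σ j)).op (piece s (σ j)) k (resC (pY s (σ j)) (piece s (σ j)).δY' s.δY' k a) := fun e =>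
    (op_resC e hX hY s ((σ j).paste (piece s (σ j))) (pY s (σ j)) (pX s (σ j)) pullback.condition
      pullback.condition ((σ j).isPullback.lift_snd _ _ _).symm (fun _ => rfl) (fun _ => rfl) k a).symm
  rw [key, key, hcd]

theorem res_surjective (hX : Cyc.IsSetup X δX) (hY : Cyc.IsSetup Y δY) (hd : IsDecomp (fun j => (σ j).g))
    {p : ℤ} (e : ∀ j, Bivar.Cl p (σ j).f' (σ j).δX' (σ j).δY') :
    ∃ c : Bivar.Cl p f δX δY, ∀ j, c.res (σ j) = e j := by
  classical
  have hop : ∀ (s : Bivar.Sq f δX δY) (k : ℤ), ∃ F : ChowOps.CH s.Y' s.δY' k →+ ChowOps.CH s.X' s.δX' (k - p),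
      ∀ (a : ChowOps.CH s.Y' s.δY' k) (j : J),
        resC (pX s (σ j)) (piece s (σ j)).δX' s.δX' (k - p) (F a) =
          (e j).op (piece s (σ j)) k (resC (pY s (σ j)) (piece s (σ j)).δY' s.δY' k a) := by
    intro s k
    choose G hG using fun a => exists_resC_eq (decompX hd s) (setupX hX s)
      (δV := fun j => (piece s (σ j)).δX') (fun _ _ => rfl)
      (fun j => (e j).op (piece s (σ j)) k (resC (pY s (σ j)) (piece s (σ j)).δY' s.δY' k a))
    refine ⟨AddMonoidHom.mk' G fun a b => ?_, hG⟩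
    refine eq_of_resC_eq (decompX hd s) (setupX hX s) (δV := fun j => (piece s (σ j)).δX') (fun _ _ => rfl) _ _
      fun j => ?_
    simp only [map_add, hG]
  choose F hF using hop
  -- a class is determined by its restrictions to the pieces
  have hFeq : ∀ (s : Bivar.Sq f δX δY) (k : ℤ) {α : AlgebraicCycle s.Y' ℤ} (hα : α ∈ Cyc.Zk s.Y' s.δY' k)
      {β : AlgebraicCycle s.X' ℤ} (hβ : β ∈ Cyc.Zk s.X' s.δX' (k - p)),
      (∀ j, (e j).op (piece s (σ j)) k (ChowOps.cl (restrictCyc (pY s (σ j)) α)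
          (restrictCyc_mem _ (fun _ => rfl) hα)) =
        ChowOps.cl (restrictCyc (pX s (σ j)) β) (restrictCyc_mem _ (fun _ => rfl) hβ)) →
      F s k (ChowOps.cl α hα) = ChowOps.cl β hβ := by
    intro s k α hα β hβ h
    refine eq_of_resC_eq (decompX hd s) (setupX hX s) (δV := fun j => (piece s (σ j)).δX') (fun _ _ => rfl) _ _
      fun j => ?_
    rw [hF, resC_cl _ (fun _ => rfl) (setupPY (σ := σ) hY s j) (setupY hY s),
      resC_cl _ (fun _ => rfl) (setupPX (σ := σ) hX s j) (setupX hX s)]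
    exact h j
  refine ⟨{ op := F, push := ?_, pull := ?_, gysin := ?_ }, fun j => ?_⟩
  · intro s t h _ h' _ w₁ w₂ w₃ k α hα
    choose hj hj' e₁ e₂ e₃ sqY sqX using fun j => exists_pieceHom (σ j) s t h h' w₁ w₂ w₃
    haveI : ∀ j, IsProper (hj j) := fun j => MorphismProperty.of_isPullback (sqY j).flip inferInstance
    haveI : ∀ j, IsProper (hj' j) := fun j => MorphismProperty.of_isPullback (sqX j).flip inferInstance
    choose β hβ hop₁ hop₂ using fun j => (e j).push (piece s (σ j)) (piece t (σ j)) (hj j) (hj' j)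
      (e₁ j) (e₂ j) (e₃ j) k (restrictCyc (pY t (σ j)) α) (restrictCyc_mem _ (fun _ => rfl) hα)
    obtain ⟨γ, hγ⟩ := exists_glue (decompX hd t) β
    have hres : ∀ j, restrictCyc (pX t (σ j)) γ = β j := fun j => DFunLike.ext _ _ fun a => hγ j a
    have hγk : γ ∈ Cyc.Zk t.X' t.δX' (k - p) := fun x hx => by
      obtain ⟨j, v, rfl⟩ := (decompX hd t).cov x
      rw [hγ]; exact hβ j v hx
    refine ⟨γ, hγk, hFeq t k hα hγk fun j => ?_, hFeq s k _ _ fun j => ?_⟩
    · simp only [hres]; exact hop₁ j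
    · have cY := (compatY s t h w₁).2
      have cX := (compatX s t h' w₃).2
      have h1 : restrictCyc (pY s (σ j)) (AlgebraicCycle.map h t.δY' s.δY' α) =
          AlgebraicCycle.map (hj j) (piece t (σ j)).δY' (piece s (σ j)).δY' (restrictCyc (pY t (σ j)) α) := by
        refine DFunLike.ext _ _ fun a => ?_
        have := congrFun (pullFun_map_square (sqY j) (setupY hY t) (setupY hY s) (setupPY (σ := σ) hY s j) cY
          (compatY (f := (σ j).f') (piece s (σ j)) (piece t (σ j)) (hj j) (e₁ j)).2 0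
          (fun x _ => (add_zero _).symm) (fun x _ => (add_zero _).symm) k α hα
          (restrictCyc (pY t (σ j)) α) (pullFun_restrict _ (fun _ => rfl) _).symm) a
        rw [pullFun_restrict _ (fun _ => rfl)] at this
        exact this
      have h2 : restrictCyc (pX s (σ j)) (AlgebraicCycle.map h' t.δX' s.δX' γ) =
          AlgebraicCycle.map (hj' j) (piece t (σ j)).δX' (piece s (σ j)).δX' (β j) := by
        refine DFunLike.ext _ _ fun a => ?_
        have := congrFun (pullFun_map_square (sqX j) (setupX hX t) (setupX hX s) (setupPX (σ := σ) hX s j) cX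
          (compatX (f := (σ j).f') (piece s (σ j)) (piece t (σ j)) (hj' j) (e₃ j)).2 0
          (fun x _ => (add_zero _).symm) (fun x _ => (add_zero _).symm) (k - p) γ hγk
          (restrictCyc (pX t (σ j)) γ) (pullFun_restrict _ (fun _ => rfl) _).symm) a
        rw [pullFun_restrict _ (fun _ => rfl), hres] at this
        exact this
      simp only [h1, h2]
      exact hop₂ j
  · intro s t h _ h' _ r hr hr' w₁ w₂ w₃ k α hα
    haveI := (compatY s t h w₁).1
    haveI := (compatX s t h' w₃).1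
    have cY := (compatY s t h w₁).2
    have cX := (compatX s t h' w₃).2
    choose hj hj' e₁ e₂ e₃ sqY sqX using fun j => exists_pieceHom (σ j) s t h h' w₁ w₂ w₃
    haveI : ∀ j, Flat (hj j) := fun j => MorphismProperty.of_isPullback (sqY j).flip inferInstance
    haveI : ∀ j, Flat (hj' j) := fun j => MorphismProperty.of_isPullback (sqX j).flip inferInstance
    haveI : ∀ j, LocallyOfFiniteType (hj j) := fun j => MorphismProperty.of_isPullback (sqY j).flip inferInstance
    haveI : ∀ j, LocallyOfFiniteType (hj' j) := fun j => MorphismProperty.of_isPullback (sqX j).flip inferInstance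
    have rY : ∀ j, Cyc.HasRelDim (hj j) r := fun j => hasRelDim_of_isPullback (sqY j) hr
    have rX : ∀ j, Cyc.HasRelDim (hj' j) r := fun j => hasRelDim_of_isPullback (sqX j) hr'
    choose β hβ hop₁ H using fun j => (e j).pull (piece s (σ j)) (piece t (σ j)) (hj j) (hj' j) r (rY j) (rX j)
      (e₁ j) (e₂ j) (e₃ j) k (restrictCyc (pY s (σ j)) α) (restrictCyc_mem _ (fun _ => rfl) hα)
    obtain ⟨γ, hγ⟩ := exists_glue (decompX hd s) β
    have hres : ∀ j, restrictCyc (pX s (σ j)) γ = β j := fun j => DFunLike.ext _ _ fun a => hγ j a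
    have hγk : γ ∈ Cyc.Zk s.X' s.δX' (k - p) := fun x hx => by
      obtain ⟨j, v, rfl⟩ := (decompX hd s).cov x
      rw [hγ]; exact hβ j v hx
    refine ⟨γ, hγk, hFeq s k hα hγk fun j => by simp only [hres]; exact hop₁ j, fun α₁ hα₁c hα₁ => ?_⟩
    haveI := (setupX hX t).1
    obtain ⟨γ₁, hγ₁⟩ := exists_pullback_cycle h' t.δX' s.δX' (r : ℤ) (delta_of_hasRelDim h' hr' cX) γ
    have hγ₁k : γ₁ ∈ Cyc.Zk t.X' t.δX' (k + r - p) := by
      have := PB.pullFun_mem_Zk h' t.δX' s.δX' (r : ℤ) hγk hγ₁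
      rwa [show k - p + (r : ℤ) = k + r - p by ring] at this
    refine ⟨γ₁, hγ₁k, hγ₁, hFeq t (k + r) hα₁ hγ₁k fun j => ?_⟩
    obtain ⟨β₁, hβ₁, hβ₁c, hop₂⟩ := H j (restrictCyc (pY t (σ j)) α₁) (by
      show (fun a => α₁ (pY t (σ j) a)) = _
      rw [hα₁c]
      exact restrict_pullFun (pY s (σ j)) (pY t (σ j)) h (hj j) (sqY j).w (fun _ => rfl) (fun _ => rfl)
        (delta_of_hasRelDim h hr cY)
        (delta_of_hasRelDim (hj j) (rY j)
          (compatY (f := (σ j).f') (piece s (σ j)) (piece t (σ j)) (hj j) (e₁ j)).2) ⇑α)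
      (restrictCyc_mem _ (fun _ => rfl) hα₁)
    rw [hop₂]
    refine Bivar.cl_congr (DFunLike.ext' ?_) _ _
    show ⇑β₁ = fun a => γ₁ (pX t (σ j) a)
    rw [hβ₁c, hγ₁, restrict_pullFun (pX s (σ j)) (pX t (σ j)) h' (hj' j) (sqX j).w (δP := (piece s (σ j)).δX')
      (δP' := (piece t (σ j)).δX') (fun _ => rfl) (fun _ => rfl) (delta_of_hasRelDim h' hr' cX)
      (delta_of_hasRelDim (hj' j) (rX j)
        (compatX (f := (σ j).f') (piece s (σ j)) (piece t (σ j)) (hj' j) (e₃ j)).2) ⇑γ, ← hres j]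
    rfl
  · intro s t i _ i' _ w₁ w₂ w₃ L hL μ hμ ν hν k α hα
    choose hj hj' e₁ e₂ e₃ sqY sqX using fun j => exists_pieceHom (σ j) s t i i' w₁ w₂ w₃
    haveI : ∀ j, IsClosedImmersion (hj j) := fun j => MorphismProperty.of_isPullback (sqY j).flip inferInstance
    haveI : ∀ j, IsClosedImmersion (hj' j) := fun j => MorphismProperty.of_isPullback (sqX j).flip inferInstance
    have hsY := setupY hY s
    have hsX := setupX hX s
    haveI := hsY.1
    haveI := hsX.1
    have hN : PicF.IsInvertible ((Scheme.Modules.pullback s.f').obj L) := PicLoc.isInvertible_pullback s.f' hL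
    choose μ₀ hμ₀ using fun j => exists_isZeroSchemeOf_pullback (pY s (σ j)) hL μ i hμ
    choose ν₀ hν₀ using fun j => exists_isZeroSchemeOf_pullback (pX s (σ j)) hN ν i' hν
    let Lj := fun j => (Scheme.Modules.pullback (pY s (σ j))).obj L
    have hLj : ∀ j, PicF.IsInvertible (Lj j) := fun j => PicLoc.isInvertible_pullback _ hL
    let Nj := fun j => (Scheme.Modules.pullback (pX s (σ j))).obj ((Scheme.Modules.pullback s.f').obj L)
    have hNj : ∀ j, PicF.IsInvertible (Nj j) := fun j => PicLoc.isInvertible_pullback _ hN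
    have hMj : ∀ j, PicF.IsInvertible ((Scheme.Modules.pullback (piece s (σ j)).f').obj (Lj j)) := fun j =>
      PicLoc.isInvertible_pullback _ (hLj j)
    let ι : ∀ j, Nj j ≅ (Scheme.Modules.pullback (piece s (σ j)).f').obj (Lj j) := fun j =>
      (Scheme.Modules.pullbackComp (pX s (σ j)) s.f').app L ≪≫
        (Scheme.Modules.pullbackCongr pullback.condition).app L ≪≫
        ((Scheme.Modules.pullbackComp (piece s (σ j)).f' (pY s (σ j))).app L).symm
    have zY : ∀ j, Cyc.IsZeroSchemeOf (hj j) (Lj j) (μ₀ j) := fun j => by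
      rw [← (sqY j).isoPullback_hom_fst]
      exact isZeroSchemeOf_iso_comp _ _ (hμ₀ j)
    have zX : ∀ j, Cyc.IsZeroSchemeOf (hj' j) (Nj j) (ν₀ j) := fun j => by
      rw [← (sqX j).isoPullback_hom_fst]
      exact isZeroSchemeOf_iso_comp _ _ (hν₀ j)
    choose β hβ hop₁ H using fun j => (e j).gysin (piece s (σ j)) (piece t (σ j)) (hj j) (hj' j)
      (e₁ j) (e₂ j) (e₃ j) (Lj j) (hLj j) (μ₀ j) (zY j) ((ι j).hom.app ⊤ (ν₀ j))
      (isZeroSchemeOf_app_iso _ (ι j) (zX j)) k (restrictCyc (pY s (σ j)) α)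
      (restrictCyc_mem _ (fun _ => rfl) hα)
    obtain ⟨γ, hγ⟩ := exists_glue (decompX hd s) β
    have hres : ∀ j, restrictCyc (pX s (σ j)) γ = β j := fun j => DFunLike.ext _ _ fun a => hγ j a
    have hγk : γ ∈ Cyc.Zk s.X' s.δX' (k - p) := fun x hx => by
      obtain ⟨j, v, rfl⟩ := (decompX hd s).cov x
      rw [hγ]; exact hβ j v hx
    refine ⟨γ, hγk, hFeq s k hα hγk fun j => by simp only [hres]; exact hop₁ j,
      fun w hw g hgc hg w' hw' => ?_⟩
    have dY : t.δY' = fun d => s.δY' (i d) :=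
      GraphPull.deltaCompat_unique i (compatY s t i w₁).2 (deltaCompat_preimmersion i s.δY')
    have dX : t.δX' = fun d => s.δX' (i' d) :=
      GraphPull.deltaCompat_unique i' (compatX s t i' w₃).2 (deltaCompat_preimmersion i' s.δX')
    have dYj : ∀ j, (piece t (σ j)).δY' = fun d => (piece s (σ j)).δY' (hj j d) := fun j =>
      GraphPull.deltaCompat_unique (hj j)
        (compatY (f := (σ j).f') (piece s (σ j)) (piece t (σ j)) (hj j) (e₁ j)).2
        (deltaCompat_preimmersion (hj j) _)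
    have dXj : ∀ j, (piece t (σ j)).δX' = fun d => (piece s (σ j)).δX' (hj' j d) := fun j =>
      GraphPull.deltaCompat_unique (hj' j)
        (compatX (f := (σ j).f') (piece s (σ j)) (piece t (σ j)) (hj' j) (e₃ j)).2
        (deltaCompat_preimmersion (hj' j) _)
    obtain ⟨ζ, hζc, hζk, -⟩ := exists_gysin_cycle hsX.2.2 hN ν i' hν _ γ hγk w' hw'
    rw [← dX, show k - p - 1 = k - 1 - p by ring] at hζk
    refine ⟨ζ, hζk, hζc, hFeq t (k - 1) hg hζk fun j => ?_⟩
    have hpY := setupPY (σ := σ) hY s j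
    have hpX := setupPX (σ := σ) hX s j
    haveI := hpY.1
    haveI := hpX.1
    haveI := (setupPY (σ := σ) hY t j).1
    haveI := (setupPX (σ := σ) hX t j).1
    obtain ⟨v, hv⟩ := exists_secs (hLj j)
    obtain ⟨u, hu⟩ := exists_secs (hNj j)
    obtain ⟨gj, hgjc, hgjk, -⟩ := exists_gysin_cycle hpY.2.2 (hLj j) (μ₀ j) (hj j) (zY j) k
      (restrictCyc (pY s (σ j)) α) (restrictCyc_mem _ (fun _ => rfl) hα) v hv
    rw [← dYj j] at hgjk
    obtain ⟨ζj, hζjk, hζjc, hop₂⟩ := H j v hv gj hgjc hgjk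
      (fun η => secMap (ι j).hom η (u η)) (fun η => secMap_ne_zero (ι j) (hu η))
    have r1 : Cyc.RatEquiv (piece t (σ j)).δY' (k - 1) gj (restrictCyc (pY t (σ j)) g) := by
      rw [dYj j]
      have := gysin_pullFun_square hsY.2.2 hpY.2.2 (pY s (σ j)) 0 (fun x _ => (add_zero _).symm) hL μ i hμ
        (sqY j) (μ₀ j) (hμ₀ j) (k - 1) α (by rwa [sub_add_cancel]) w hw v hv gj (restrictCyc (pY t (σ j)) g)
        (fun z => by rw [hgjc, pullFun_restrict _ (fun _ => rfl)]; rfl)
        (by
          rw [← dY, ← dYj j, pullFun_restrict _ (fun _ => rfl)]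
          exact funext fun z => hgc _)
      simpa using this
    have r2 : Cyc.RatEquiv (piece t (σ j)).δX' (k - 1 - p) ζj (restrictCyc (pX t (σ j)) ζ) := by
      rw [dXj j]
      have := gysin_pullFun_square hsX.2.2 hpX.2.2 (pX s (σ j)) 0 (fun x _ => (add_zero _).symm) hN ν i' hν
        (sqX j) (ν₀ j) (hν₀ j) (k - 1 - p) γ (by rwa [show k - 1 - p + 1 = k - p by ring]) w' hw' u hu
        ζj (restrictCyc (pX t (σ j)) ζ)
        (fun z => by
          rw [hζjc, c1CapFun_gysin_iso hpX.2.2 (hNj j) (hMj j) (ι j) (ν₀ j) u hu,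
            pullFun_restrict _ (fun _ => rfl), ← hres j]
          rfl)
        (by
          rw [← dX, ← dXj j, pullFun_restrict _ (fun _ => rfl)]
          exact funext fun z => hζc _)
      simpa using this
    rw [← (cl_eq_iff (setupPY (σ := σ) hY t j).2.2 hgjk (restrictCyc_mem _ (fun _ => rfl) hg)).2 r1, hop₂]
    exact (cl_eq_iff (setupPX (σ := σ) hX t j).2.2 hζjk (restrictCyc_mem _ (fun _ => rfl) hζk)).2 r2
  · refine Bivar.Cl.ext (funext fun t => funext fun k => AddMonoidHom.ext fun a => ?_)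
    refine eq_of_resC_eq (decompX hd ((σ j).paste t)) (setupX hX _)
      (δV := fun i => (piece ((σ j).paste t) (σ i)).δX') (fun _ _ => rfl) _ _ fun i => ?_
    show resC _ _ _ _ (F ((σ j).paste t) k a) = _
    rw [hF]
    by_cases hij : i = j
    · subst hij
      refine op_resC (e i) ?_ ?_ t (piece ((σ i).paste t) (σ i)) (pY _ (σ i)) (pX _ (σ i)) ?_
        pullback.condition ?_ (fun _ => rfl) (fun _ => rfl) k a
      · haveI := lft_g' (σ i); exact setupX hX (σ i)
      · exact setupY hY (σ i)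
      · rw [← cancel_mono (σ i).g, Category.assoc]
        exact pullback.condition
      · refine (σ i).isPullback.hom_ext ?_ ?_
        · rw [(σ i).isPullback.lift_fst, Category.assoc, ← t.isPullback.w, ← Category.assoc, pullback.condition,
            Category.assoc, ← cancel_mono (σ i).g, Category.assoc, Category.assoc, Category.assoc]
          exact congrArg (pullback.snd _ (pY ((σ i).paste t) (σ i)) ≫ ·) pullback.condition
        · rw [(σ i).isPullback.lift_snd, Category.assoc]
    · haveI : IsEmpty (piece ((σ j).paste t) (σ i)).X' := ⟨fun x => by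
        have hx : pY ((σ j).paste t) (σ i) ((piece ((σ j).paste t) (σ i)).f' x) ∈ Set.range (pY ((σ j).paste t) (σ i)) :=
          ⟨_, rfl⟩
        rw [Scheme.Pullback.range_fst] at hx
        exact Set.disjoint_left.1 (hd.disj i j hij) hx ⟨t.g (pY ((σ j).paste t) (σ i) ((piece ((σ j).paste t) (σ i)).f' x)), rfl⟩⟩
      obtain ⟨α, hα, hαe⟩ := Bivar.exists_rep ((e i).op (piece ((σ j).paste t) (σ i)) k
        (resC (pY _ (σ i)) (piece ((σ j).paste t) (σ i)).δY' ((σ j).paste t).δY' k a))
      obtain ⟨β, hβ, hβe⟩ := Bivar.exists_rep (resC (pX _ (σ i)) (piece ((σ j).paste t) (σ i)).δX'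
        ((σ j).paste t).δX' (k - p) ((e j).op t k a))
      rw [← hαe, ← hβe]
      exact Bivar.cl_congr (DFunLike.ext _ _ fun x => isEmptyElim x) _ _

theorem res_bijective (hX : Cyc.IsSetup X δX) (hY : Cyc.IsSetup Y δY) (hd : IsDecomp (fun j => (σ j).g))
    (p : ℤ) : Function.Bijective (fun c : Bivar.Cl p f δX δY => fun j : J => c.res (σ j)) :=
  ⟨fun c d h => res_injective hX hY hd c d fun j => congrFun h j,
    fun e => let ⟨c, hc⟩ := res_surjective hX hY hd e; ⟨c, funext hc⟩⟩

end Groth.Agent.CohDer1.BivarClopen
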