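import Groth.Agent.CohDer1.Bivar.Glue
import Groth.Agent.CycLib28.FieldExt.PullEq
import Groth.Prelude.Def_Bivar2

/-!
# Pieces of a test square over an open and closed subscheme of the base
-/

set_option autoImplicit false
set_option linter.style.haveILetI false
set_option backward.isDefEq.respectTransparency.types false
set_option linter.unusedSectionVars false

universe u

open AlgebraicGeometry CategoryTheory CategoryTheory.Limits
open Groth.Agent.CycLib28 Groth.Agent.CycLib28.PB Groth.Agent.CycLib28.PB.Ops Groth.Agent.CycLim28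

namespace Groth.Agent.CohDer1.BivarClopen

open Groth.Agent.Bivar15

variable {X Y : Scheme.{u}} {f : X ⟶ Y} {δX : X → ℤ} {δY : Y → ℤ}

section Sq

theorem lft_g' (s : Bivar.Sq f δX δY) : LocallyOfFiniteType s.g' :=
  haveI := s.lft
  MorphismProperty.of_isPullback s.isPullback inferInstance

theorem setupY (hY : Cyc.IsSetup Y δY) (s : Bivar.Sq f δX δY) : Cyc.IsSetup s.Y' s.δY' :=
  haveI := s.lft
  isSetup_of_deltaCompat s.g hY s.compatY

theorem setupX (hX : Cyc.IsSetup X δX) (s : Bivar.Sq f δX δY) : Cyc.IsSetup s.X' s.δX' :=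
  haveI := lft_g' s
  isSetup_of_deltaCompat s.g' hX s.compatX

theorem compatY (s t : Bivar.Sq f δX δY) (h : t.Y' ⟶ s.Y') (w : h ≫ s.g = t.g) :
    LocallyOfFiniteType h ∧ Cyc.DeltaCompat h t.δY' s.δY' := by
  haveI := s.lft
  haveI := t.lft
  haveI : LocallyOfFiniteType (h ≫ s.g) := w ▸ inferInstance
  haveI := locallyOfFiniteType_of_comp h s.g
  exact ⟨inferInstance, deltaCompat_cancel (f := 𝟙 Y) (π := s.g) (π' := t.g) (f' := h) (by simpa using w)
    t.compatY (Bivar.deltaCompat_id δY) s.compatY⟩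

theorem compatX (s t : Bivar.Sq f δX δY) (h : t.X' ⟶ s.X') (w : h ≫ s.g' = t.g') :
    LocallyOfFiniteType h ∧ Cyc.DeltaCompat h t.δX' s.δX' := by
  haveI := lft_g' s
  haveI := lft_g' t
  haveI : LocallyOfFiniteType (h ≫ s.g') := w ▸ inferInstance
  haveI := locallyOfFiniteType_of_comp h s.g'
  exact ⟨inferInstance, deltaCompat_cancel (f := 𝟙 X) (π := s.g') (π' := t.g') (f' := h) (by simpa using w)
    t.compatX (Bivar.deltaCompat_id δX) s.compatX⟩

theorem sq_isPullback (s t : Bivar.Sq f δX δY) (h : t.Y' ⟶ s.Y') (h' : t.X' ⟶ s.X')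
    (w₁ : h ≫ s.g = t.g) (w₂ : h' ≫ s.f' = t.f' ≫ h) (w₃ : h' ≫ s.g' = t.g') :
    IsPullback t.f' h' h s.f' :=
  IsPullback.of_bot (by rw [w₁, w₃]; exact t.isPullback) w₂.symm s.isPullback

/-- The operations of a bivariant class commute with restriction along open and closed immersions. -/
theorem op_resC {p : ℤ} (c : Bivar.Cl p f δX δY) (hX : Cyc.IsSetup X δX) (hY : Cyc.IsSetup Y δY)
    (s t : Bivar.Sq f δX δY) (h : t.Y' ⟶ s.Y') [IsOpenImmersion h] [IsClosedImmersion h]
    (h' : t.X' ⟶ s.X') [IsOpenImmersion h'] [IsClosedImmersion h']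
    (w₁ : h ≫ s.g = t.g) (w₂ : h' ≫ s.f' = t.f' ≫ h) (w₃ : h' ≫ s.g' = t.g')
    (hdY : ∀ a, t.δY' a = s.δY' (h a)) (hdX : ∀ a, t.δX' a = s.δX' (h' a)) (k : ℤ)
    (a : ChowOps.CH s.Y' s.δY' k) :
    c.op t k (resC h t.δY' s.δY' k a) = resC h' t.δX' s.δX' (k - p) (c.op s k a) := by
  obtain ⟨α, hα, rfl⟩ := Bivar.exists_rep a
  obtain ⟨β, hβ, hop, H⟩ := c.pull s t h h' 0 (FieldExt.hasRelDim_zero_of_finite h)
    (FieldExt.hasRelDim_zero_of_finite h') w₁ w₂ w₃ k α hα
  have hidx : k + ((0 : ℕ) : ℤ) = k := by simp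
  have hm : restrictCyc h α ∈ Cyc.Zk t.Y' t.δY' (k + ((0 : ℕ) : ℤ)) := by
    rw [hidx]; exact restrictCyc_mem h hdY hα
  obtain ⟨β₁, hβ₁, hβ₁c, hop₁⟩ := H (restrictCyc h α)
    (by rw [Nat.cast_zero, pullFun_restrict h hdY]; rfl) hm
  rw [hop, resC_cl h hdY (setupY hY t) (setupY hY s) hα, resC_cl h' hdX (setupX hX t) (setupX hX s) hβ]
  have he : β₁ = restrictCyc h' β := DFunLike.ext _ _ fun a => by
    rw [congrFun hβ₁c a, Nat.cast_zero, pullFun_restrict h' hdX]
    rfl
  subst he
  clear H hβ₁c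
  revert hm hβ₁ hop₁
  generalize k + ((0 : ℕ) : ℤ) = k₁ at hidx
  subst hidx
  intro hm hβ₁ hop₁
  exact hop₁

end Sq

variable (s σ : Bivar.Sq f δX δY)

/-- The part of the test scheme of `s` over the test scheme of `σ`. -/
noncomputable abbrev pY : pullback s.g σ.g ⟶ s.Y' := pullback.fst s.g σ.g

/-- The part of the fibre product of `s` over the test scheme of `σ`. -/
noncomputable abbrev pX : pullback s.f' (pY s σ) ⟶ s.X' := pullback.fst s.f' (pY s σ)

theorem pX_w : (pullback.snd s.f' (pY s σ) ≫ pullback.snd s.g σ.g) ≫ σ.g = (pX s σ ≫ s.g') ≫ f := by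
  rw [Category.assoc, ← pullback.condition, ← Category.assoc, ← pullback.condition, Category.assoc,
    Category.assoc, s.isPullback.w]

/-- The projection of the part over `σ` to the fibre product of `σ`. -/
noncomputable abbrev pieceG' : pullback s.f' (pY s σ) ⟶ σ.X' :=
  σ.isPullback.lift (pullback.snd s.f' (pY s σ) ≫ pullback.snd s.g σ.g) (pX s σ ≫ s.g') (pX_w s σ)

variable [IsOpenImmersion σ.g] [IsClosedImmersion σ.g]

theorem piece_isPullback : IsPullback (pullback.snd s.f' (pY s σ)) (pieceG' s σ) (pullback.snd s.g σ.g) σ.f' := by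
  refine IsPullback.of_bot ?_ (σ.isPullback.lift_fst _ _ _).symm σ.isPullback
  rw [σ.isPullback.lift_snd, ← pullback.condition]
  exact (IsPullback.of_hasPullback s.f' (pY s σ)).flip.paste_vert s.isPullback

theorem lft_σ' : LocallyOfFiniteType σ.g' :=
  MorphismProperty.of_isPullback σ.isPullback inferInstance

theorem piece_lftG' : LocallyOfFiniteType (pieceG' s σ) := by
  haveI : LocallyOfFiniteType s.g := s.lft
  haveI : LocallyOfFiniteType (pullback.snd s.g σ.g) := inferInstance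
  exact MorphismProperty.of_isPullback (piece_isPullback s σ) inferInstance

theorem piece_compatY :
    Cyc.DeltaCompat (pullback.snd s.g σ.g) (fun a => s.δY' (pY s σ a)) σ.δY' := by
  haveI : LocallyOfFiniteType s.g := s.lft
  refine deltaCompat_cancel (f := 𝟙 Y) (π := σ.g) (π' := pY s σ ≫ s.g) (f' := pullback.snd s.g σ.g)
    (by rw [Category.comp_id, pullback.condition]) ?_ (Bivar.deltaCompat_id δY) σ.compatY
  exact Bivar.deltaCompat_comp _ _ _ _ _ (deltaCompat_preimmersion (pY s σ) s.δY') s.compatY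

theorem piece_compatX :
    Cyc.DeltaCompat (pieceG' s σ) (fun a => s.δX' (pX s σ a)) σ.δX' := by
  haveI : LocallyOfFiniteType s.g' := lft_g' s
  haveI := piece_lftG' s σ
  haveI := lft_σ' σ
  refine deltaCompat_cancel (f := 𝟙 X) (π := σ.g') (π' := pX s σ ≫ s.g') (f' := pieceG' s σ)
    (by rw [Category.comp_id, σ.isPullback.lift_snd]) ?_ (Bivar.deltaCompat_id δX) σ.compatX
  exact Bivar.deltaCompat_comp _ _ _ _ _ (deltaCompat_preimmersion (pX s σ) s.δX') s.compatX

/-- The part of `s` over `σ`, as a square over `σ.f'`. -/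
noncomputable abbrev piece : Bivar.Sq σ.f' σ.δX' σ.δY' where
  Y' := pullback s.g σ.g
  X' := pullback s.f' (pY s σ)
  g := pullback.snd s.g σ.g
  f' := pullback.snd s.f' (pY s σ)
  g' := pieceG' s σ
  isPullback := piece_isPullback s σ
  lft := haveI := s.lft; inferInstance
  δY' := fun a => s.δY' (pY s σ a)
  δX' := fun a => s.δX' (pX s σ a)
  compatY := piece_compatY s σ
  compatX := piece_compatX s σ

end Groth.Agent.CohDer1.BivarClopen
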